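import Mathlib.RingTheory.Henselian
import Mathlib.RingTheory.Jacobson.Ideal
import Mathlib.Dynamics.Newton
import Mathlib.RingTheory.Ideal.Quotient.Operations
import Mathlib.RingTheory.Nilpotent.Lemmas
import Mathlib.Algebra.Polynomial.Taylor

/-!
Elementary theory of `HenselianRing A I`: change of ideal, Gabber's criterion, quotients, products.
-/

namespace Groth.Agent.Hensel

open Polynomial

variable {A B : Type*} [CommRing A] [CommRing B] {I J : Ideal A}

theorem isUnit_of_quotient (hI : I ≤ Ideal.jacobson ⊥) {x : A}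
    (h : IsUnit (Ideal.Quotient.mk I x)) : IsUnit x :=
  haveI := isLocalHom_of_le_jacobson_bot I hI
  IsUnit.of_map (Ideal.Quotient.mk I) x h

theorem isUnit_add_jacobson {u x : A} (hu : IsUnit u) (hx : x ∈ Ideal.jacobson (⊥ : Ideal A)) :
    IsUnit (u + x) := by
  refine isUnit_of_quotient le_rfl ?_
  rw [map_add, Ideal.Quotient.eq_zero_iff_mem.2 hx, add_zero]
  exact hu.map _

theorem isUnit_of_sub_mem (hI : I ≤ Ideal.jacobson ⊥) {u v : A} (hu : IsUnit u) (h : v - u ∈ I) :
    IsUnit v := by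
  simpa using isUnit_add_jacobson hu (hI h)

theorem radical_le_jacobson (hI : I ≤ Ideal.jacobson ⊥) : I.radical ≤ Ideal.jacobson ⊥ :=
  (Ideal.radical_mono hI).trans (Ideal.isRadical_jacobson (⊥ : Ideal A))

theorem eval_sub_eval_mem (f : A[X]) {a b : A} (h : a - b ∈ I) : f.eval a - f.eval b ∈ I :=
  I.mem_of_dvd (Polynomial.sub_dvd_eval_sub a b f) h

theorem sub_mem_span_eval {f : A[X]} {a a₀ : A} (ha : f.IsRoot a)
    (h : a - a₀ ∈ Ideal.jacobson (⊥ : Ideal A)) (hu : IsUnit (f.derivative.eval a₀)) :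
    a - a₀ ∈ Ideal.span {f.eval a₀} := by
  obtain ⟨k, hk⟩ := f.binomExpansion a₀ (a - a₀)
  rw [add_sub_cancel, ha.eq_zero] at hk
  have hw : IsUnit (f.derivative.eval a₀ + k * (a - a₀)) :=
    isUnit_add_jacobson hu (Ideal.mul_mem_left _ _ h)
  obtain ⟨w, hw⟩ := hw
  rw [Ideal.mem_span_singleton]
  refine ⟨-(↑w⁻¹ : A), ?_⟩
  have hwa : (w : A) * (a - a₀) = -f.eval a₀ := by linear_combination (a - a₀) * hw - hk
  calc a - a₀ = ↑w⁻¹ * ((w : A) * (a - a₀)) := by rw [Units.inv_mul_cancel_left]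
    _ = f.eval a₀ * -(↑w⁻¹ : A) := by rw [hwa]; ring

theorem root_unique {f : A[X]} {a b : A} (ha : f.IsRoot a) (hb : f.IsRoot b)
    (h : a - b ∈ Ideal.jacobson (⊥ : Ideal A)) (hu : IsUnit (f.derivative.eval b)) : a = b := by
  have := sub_mem_span_eval ha h hu
  rw [hb.eq_zero, Ideal.span_singleton_zero, Ideal.mem_bot, sub_eq_zero] at this
  exact this

theorem bot : HenselianRing A (⊥ : Ideal A) where
  jac := bot_le
  is_henselian f _ a₀ h₁ _ := ⟨a₀, by simpa using h₁, by simp⟩

/-- Henselian at `I` implies Henselian at every ideal below the radical of `I`. -/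
theorem of_le_radical [hI : HenselianRing A I] (h : J ≤ I.radical) : HenselianRing A J where
  jac := h.trans (radical_le_jacobson hI.jac)
  is_henselian := by
    intro f hf a₀ h₁ h₂
    have hu := isUnit_of_quotient (h.trans (radical_le_jacobson hI.jac)) h₂
    let π := Ideal.Quotient.mk I
    have hnil : IsNilpotent (π (f.eval a₀)) := by
      obtain ⟨n, hn⟩ := h h₁
      exact ⟨n, by rw [← map_pow]; exact Ideal.Quotient.eq_zero_iff_mem.2 hn⟩
    obtain ⟨r, ⟨hr₁, hr₂⟩, -⟩ := Polynomial.existsUnique_nilpotent_sub_and_aeval_eq_zero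
      (P := f.map π) (x := π a₀) (by rwa [coe_aeval_eq_eval, eval_map, eval₂_at_apply])
      (by
        rw [coe_aeval_eq_eval, derivative_map, eval_map, eval₂_at_apply]
        exact hu.map _)
    obtain ⟨r, rfl⟩ := Ideal.Quotient.mk_surjective r
    rw [coe_aeval_eq_eval, eval_map, eval₂_at_apply] at hr₂
    have hra : r - a₀ ∈ I.radical := by
      obtain ⟨n, hn⟩ := hr₁
      rw [← map_sub, ← map_pow, Ideal.Quotient.eq_zero_iff_mem] at hn
      have hmem : a₀ - r ∈ I.radical := ⟨n, hn⟩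
      simpa using neg_mem hmem
    have hu' : IsUnit (f.derivative.eval r) :=
      isUnit_of_sub_mem (radical_le_jacobson hI.jac) hu (eval_sub_eval_mem _ hra)
    obtain ⟨a, ha, har⟩ :=
      hI.is_henselian f hf r (Ideal.Quotient.eq_zero_iff_mem.1 hr₂) (hu'.map _)
    refine ⟨a, ha, ?_⟩
    have hmem : a - a₀ ∈ I.radical := by
      simpa using add_mem (Ideal.le_radical har) hra
    exact (Ideal.span_singleton_le_iff_mem _).2 h₁
      (sub_mem_span_eval ha (radical_le_jacobson hI.jac hmem) hu)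

theorem of_le [HenselianRing A I] (h : J ≤ I) : HenselianRing A J :=
  of_le_radical (h.trans Ideal.le_radical)

theorem iff_of_radical_eq (h : I.radical = J.radical) :
    HenselianRing A I ↔ HenselianRing A J :=
  ⟨fun _ => of_le_radical (I := I) (Ideal.le_radical.trans h.ge),
    fun _ => of_le_radical (I := J) (Ideal.le_radical.trans h.le)⟩

theorem of_nilpotent (hI : ∀ x ∈ I, IsNilpotent x) : HenselianRing A I :=
  haveI := bot (A := A)
  of_le_radical (I := ⊥) fun x hx => by
    obtain ⟨n, hn⟩ := hI x hx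
    exact ⟨n, by simp [hn]⟩

/-- Gabber's root condition. -/
def GabberRoot (I : Ideal A) : Prop :=
  ∀ (n : ℕ), 0 < n → ∀ p : A[X], p.natDegree ≤ n → (∀ i, p.coeff i ∈ I) →
    ∃ α : A, α - 1 ∈ I ∧ IsRoot (X ^ n * (X - 1) + p) α

theorem eval_mem_of_coeff_mem {p : A[X]} (hp : ∀ i, p.coeff i ∈ I) (x : A) : p.eval x ∈ I := by
  rw [eval_eq_sum_range]
  exact sum_mem fun i _ => I.mul_mem_right _ (hp i)

theorem derivative_coeff_mem {p : A[X]} (hp : ∀ i, p.coeff i ∈ I) (i : ℕ) :
    p.derivative.coeff i ∈ I := by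
  rw [coeff_derivative]
  exact I.mul_mem_right _ (hp _)

theorem gabber_derivative_eval_one {p : A[X]} (n : ℕ) :
    (derivative (X ^ n * (X - 1) + p)).eval 1 = 1 + p.derivative.eval 1 := by
  simp [derivative_mul, derivative_X_pow]

theorem gabber_monic {p : A[X]} {n : ℕ} (hp : p.natDegree ≤ n) :
    (X ^ n * (X - 1) + p).Monic := by
  rcases subsingleton_or_nontrivial A with h | h
  · exact Subsingleton.elim _ _
  have hm : (X ^ n * (X - 1) : A[X]).Monic := (monic_X_pow n).mul (by simpa using monic_X_sub_C (1 : A))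
  refine hm.add_of_left (lt_of_le_of_lt (degree_le_natDegree.trans (WithBot.coe_le_coe.2 hp)) ?_)
  rw [degree_eq_natDegree hm.ne_zero, (monic_X_pow n).natDegree_mul (by simpa using monic_X_sub_C (1 : A))]
  have : (X - 1 : A[X]).natDegree = 1 := by simpa using natDegree_X_sub_C (1 : A)
  rw [natDegree_X_pow, this]
  exact WithBot.coe_lt_coe.2 (Nat.lt_succ_self n)

theorem gabberRoot [hI : HenselianRing A I] : GabberRoot I := by
  intro n hn p hp hc
  obtain ⟨α, h, h'⟩ := hI.is_henselian _ (gabber_monic hp) 1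
    (by simpa using eval_mem_of_coeff_mem hc 1)
    (by
      rw [gabber_derivative_eval_one, map_add, map_one,
        Ideal.Quotient.eq_zero_iff_mem.2 (eval_mem_of_coeff_mem (derivative_coeff_mem hc) 1)]
      simp)
  exact ⟨α, h', h⟩

theorem exists_root_of_gabberRoot (hj : I ≤ Ideal.jacobson ⊥) (hG : GabberRoot I) (f : A[X])
    {a₀ : A} (h₁ : f.eval a₀ ∈ I) (h₂ : IsUnit (f.derivative.eval a₀)) :
    ∃ a : A, f.IsRoot a ∧ a - a₀ ∈ I := by
    obtain ⟨v, hv⟩ := isUnit_iff_exists_inv.1 h₂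
    set m := f.natDegree
    set c := fun k => (taylor a₀ f).coeff k with hc
    have hc0 : c 0 = f.eval a₀ := taylor_coeff_zero _ _
    have hc1 : c 1 = f.derivative.eval a₀ := taylor_coeff_one _ _
    set p : A[X] := ∑ k ∈ Finset.range (m + 1),
      C (c (k + 2) * (-v) ^ (k + 2) * c 0 ^ (k + 1)) * X ^ (m - k) with hp
    have hpd : p.natDegree ≤ m + 1 :=
      natDegree_sum_le_of_forall_le _ _ fun k _ =>
        (natDegree_C_mul_X_pow_le _ _).trans (by omega)
    have hpc : ∀ i, p.coeff i ∈ I := by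
      intro i
      rw [hp, finsetSum_coeff]
      refine sum_mem fun k _ => ?_
      rw [coeff_C_mul]
      exact I.mul_mem_right _ (I.mul_mem_left _ (I.pow_mem_of_mem (hc0 ▸ h₁) _ (by omega)))
    obtain ⟨U, hU, hroot⟩ := hG (m + 1) (by omega) p hpd hpc
    obtain ⟨u, rfl⟩ := isUnit_of_sub_mem hj isUnit_one hU
    refine ⟨a₀ + -(c 0 * v * (↑u⁻¹ : A)), ?_, ?_⟩
    · set x := -(c 0 * v * (↑u⁻¹ : A)) with hx
      have hux : (u : A) * x = -(c 0 * v) := by
        rw [hx, mul_neg, mul_comm (c 0 * v), ← mul_assoc, Units.mul_inv, one_mul]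
      have hsum : f.eval (a₀ + x) = c 0 + c 1 * x +
          ∑ k ∈ Finset.range (m + 1), c (k + 2) * x ^ (k + 2) := by
        rw [add_comm a₀ x, ← taylor_eval,
          eval_eq_sum_range' (n := m + 3) (by rw [natDegree_taylor]; omega)]
        rw [Finset.sum_range_succ', Finset.sum_range_succ']
        simp only [hc, pow_zero, mul_one, zero_add, pow_one]
        ring
      have hp' : c 0 * p.eval (u : A) =
          (u : A) ^ (m + 2) * ∑ k ∈ Finset.range (m + 1), c (k + 2) * x ^ (k + 2) := by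
        simp only [hp, eval_finsetSum, eval_mul, eval_C, eval_pow, eval_X, Finset.mul_sum]
        refine Finset.sum_congr rfl fun k hk => ?_
        have hk : k ≤ m := by simpa [Nat.lt_succ_iff] using hk
        calc _ = c (k + 2) * ((u : A) ^ (m - k) * (-(c 0 * v)) ^ (k + 2)) := by
              rw [neg_mul_eq_mul_neg (c 0) v, mul_pow]; ring
          _ = _ := by
              rw [← hux, mul_pow, ← mul_assoc ((u : A) ^ _), ← pow_add,
                show m - k + (k + 2) = m + 2 by omega]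
              ring
      have h0 : (u : A) ^ (m + 1) * ((u : A) - 1) + p.eval (u : A) = 0 := by
        simpa using hroot.eq_zero
      have : (u : A) ^ (m + 2) * f.eval (a₀ + x) = 0 := by
        rw [hsum, mul_add, ← hp']
        rw [hc1]
        linear_combination c 0 * h0 + (f.derivative.eval a₀) * (u : A) ^ (m + 1) * hux -
          c 0 * (u : A) ^ (m + 1) * hv
      exact (IsUnit.mul_right_eq_zero (u.isUnit.pow _)).1 this
    · rw [add_sub_cancel_left]
      exact neg_mem (I.mul_mem_right _ (I.mul_mem_right _ (hc0 ▸ h₁)))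

theorem of_gabberRoot (hj : I ≤ Ideal.jacobson ⊥) (hG : GabberRoot I) : HenselianRing A I :=
  ⟨hj, fun f _ _ h₁ h₂ => exists_root_of_gabberRoot hj hG f h₁ (isUnit_of_quotient hj h₂)⟩

/-- Simple roots of arbitrary, not necessarily monic, polynomials lift. -/
theorem exists_root [hI : HenselianRing A I] (f : A[X]) {a₀ : A} (h₁ : f.eval a₀ ∈ I)
    (h₂ : IsUnit (f.derivative.eval a₀)) : ∃ a : A, f.IsRoot a ∧ a - a₀ ∈ I :=
  exists_root_of_gabberRoot hI.jac gabberRoot f h₁ h₂

theorem iff_gabberRoot : HenselianRing A I ↔ I ≤ Ideal.jacobson ⊥ ∧ GabberRoot I :=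
  ⟨fun h => ⟨h.jac, gabberRoot⟩, fun h => of_gabberRoot h.1 h.2⟩

theorem map_le_jacobson {φ : A →+* B} (hφ : Function.Surjective φ) (h : I ≤ Ideal.jacobson ⊥) :
    I.map φ ≤ Ideal.jacobson ⊥ := by
  intro x hx
  obtain ⟨x, hxI, rfl⟩ := (Ideal.mem_map_iff_of_surjective φ hφ).1 hx
  rw [Ideal.mem_jacobson_bot]
  intro y
  obtain ⟨y, rfl⟩ := hφ y
  simpa using ((Ideal.mem_jacobson_bot.1 (h hxI)) y).map φ

/-- The image of a Henselian pair under a surjection is Henselian. -/
theorem map_surjective [hI : HenselianRing A I] {φ : A →+* B} (hφ : Function.Surjective φ) :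
    HenselianRing B (I.map φ) := by
  classical
  refine of_gabberRoot (map_le_jacobson hφ hI.jac) fun n hn p hp hc => ?_
  choose b hbI hb using fun i => (Ideal.mem_map_iff_of_surjective φ hφ).1 (hc i)
  set q : A[X] := ∑ i ∈ Finset.range (n + 1), C (b i) * X ^ i with hq
  have hqd : q.natDegree ≤ n :=
    natDegree_sum_le_of_forall_le _ _ fun i hi =>
      (natDegree_C_mul_X_pow_le _ _).trans (by simpa [Nat.lt_succ_iff] using hi)
  have hqc : ∀ i, q.coeff i ∈ I := by
    intro i
    rw [hq, finsetSum_coeff]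
    refine sum_mem fun k _ => ?_
    simp only [coeff_C_mul]
    exact I.mul_mem_right _ (hbI k)
  have hqp : q.map φ = p := by
    rw [hq, Polynomial.map_sum, p.as_sum_range_C_mul_X_pow' (n := n + 1) (by omega)]
    simp [hb]
  obtain ⟨α, h₁, h₂⟩ := gabberRoot n hn q hqd hqc
  refine ⟨φ α, by simpa using Ideal.mem_map_of_mem φ h₁, ?_⟩
  have := h₂.map (f := φ)
  simpa [hqp] using this

theorem quotient [HenselianRing A J] (I : Ideal A) :
    HenselianRing (A ⧸ I) (J.map (Ideal.Quotient.mk I)) :=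
  map_surjective Ideal.Quotient.mk_surjective

theorem of_ringEquiv [HenselianRing A I] (e : A ≃+* B) : HenselianRing B (I.map (e : A →+* B)) :=
  map_surjective e.surjective

/-- Henselian at `J` from Henselian at `I ≤ J` and `A ⧸ I` Henselian at the image of `J`. -/
theorem of_quotient [hI : HenselianRing A I] (hIJ : I ≤ J)
    [hq : HenselianRing (A ⧸ I) (J.map (Ideal.Quotient.mk I))] : HenselianRing A J := by
  let π := Ideal.Quotient.mk I
  have hmem : ∀ x, π x ∈ J.map π → x ∈ J := by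
    intro x hx
    obtain ⟨y, hy, hxy⟩ := (Ideal.mem_map_iff_of_surjective π Ideal.Quotient.mk_surjective).1 hx
    have := hIJ (Ideal.Quotient.eq.1 hxy)
    simpa using sub_mem hy this
  have hjac : J ≤ Ideal.jacobson ⊥ := by
    intro x hx
    rw [Ideal.mem_jacobson_bot]
    intro y
    refine isUnit_of_quotient hI.jac ?_
    simpa using Ideal.mem_jacobson_bot.1 (hq.jac (Ideal.mem_map_of_mem π hx)) (π y)
  refine ⟨hjac, fun f hf a₀ h₁ h₂ => ?_⟩
  have hu := isUnit_of_quotient hjac h₂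
  obtain ⟨b, hb₁, hb₂⟩ := hq.is_henselian (f.map π) (hf.map π) (π a₀)
    (by rw [eval_map, eval₂_at_apply]; exact Ideal.mem_map_of_mem π h₁)
    (by rw [derivative_map, eval_map, eval₂_at_apply]; exact (hu.map π).map _)
  obtain ⟨b, rfl⟩ := Ideal.Quotient.mk_surjective b
  have hba : b - a₀ ∈ J := hmem _ (by simpa using hb₂)
  have hfb : f.eval b ∈ I := by
    rw [IsRoot, eval_map, eval₂_at_apply] at hb₁
    exact Ideal.Quotient.eq_zero_iff_mem.1 hb₁
  have hu' : IsUnit (f.derivative.eval b) := isUnit_of_sub_mem hjac hu (eval_sub_eval_mem _ hba)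
  obtain ⟨a, ha, hab⟩ := hI.is_henselian f hf b hfb (hu'.map _)
  exact ⟨a, ha, by simpa using add_mem (hIJ hab) hba⟩

theorem iff_of_le (hIJ : I ≤ J) : HenselianRing A J ↔
    HenselianRing A I ∧ HenselianRing (A ⧸ I) (J.map (Ideal.Quotient.mk I)) :=
  ⟨fun _ => ⟨of_le hIJ, quotient I⟩, fun ⟨_, _⟩ => of_quotient hIJ⟩

theorem sup [HenselianRing A I] [HenselianRing A J] : HenselianRing A (I ⊔ J) := by
  have : HenselianRing (A ⧸ I) ((I ⊔ J).map (Ideal.Quotient.mk I)) := by
    rw [Ideal.map_sup, Ideal.map_quotient_self, bot_sup_eq]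
    exact quotient I
  exact of_quotient le_sup_left

theorem exists_largest (A : Type*) [CommRing A] :
    ∃ I : Ideal A, HenselianRing A I ∧ ∀ J : Ideal A, HenselianRing A J → J ≤ I := by
  set S := {J : Ideal A | HenselianRing A J}
  have hne : S.Nonempty := ⟨⊥, bot⟩
  have hdir : DirectedOn (· ≤ ·) S := by
    intro I hI J hJ
    haveI : HenselianRing A I := hI
    haveI : HenselianRing A J := hJ
    exact ⟨I ⊔ J, sup, le_sup_left, le_sup_right⟩
  have hmem {x : A} : x ∈ sSup S ↔ ∃ J ∈ S, x ∈ J := Submodule.mem_sSup_of_directed hne hdir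
  have hjac : sSup S ≤ Ideal.jacobson ⊥ := sSup_le fun J hJ => hJ.jac
  refine ⟨sSup S, ⟨hjac, fun f hf a₀ h₁ h₂ => ?_⟩, fun J hJ => le_sSup hJ⟩
  obtain ⟨J, hJ, hfJ⟩ := hmem.1 h₁
  obtain ⟨a, ha, haJ⟩ :=
    hJ.is_henselian f hf a₀ hfJ ((isUnit_of_quotient hjac h₂).map _)
  exact ⟨a, ha, hmem.2 ⟨J, hJ, haJ⟩⟩

theorem pi {ι : Type*} {A : ι → Type*} [∀ j, CommRing (A j)] {I : ∀ j, Ideal (A j)}
    (h : ∀ j, HenselianRing (A j) (I j)) :
    HenselianRing (∀ j, A j) (⨅ j, Ideal.comap (Pi.evalRingHom A j) (I j)) := by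
  set K := ⨅ j, Ideal.comap (Pi.evalRingHom A j) (I j)
  have hK {x : ∀ j, A j} : x ∈ K ↔ ∀ j, x j ∈ I j := by simp [K, Ideal.mem_iInf]
  refine of_gabberRoot ?_ ?_
  · intro x hx
    rw [Ideal.mem_jacobson_bot]
    intro y
    have hj : ∀ j, IsUnit (x j * y j + 1) := fun j =>
      Ideal.mem_jacobson_bot.1 ((h j).jac (hK.1 hx j)) (y j)
    choose v hv using fun j => isUnit_iff_exists_inv.1 (hj j)
    exact isUnit_iff_exists_inv.2 ⟨v, funext fun j => by simpa using hv j⟩
  · intro n hn p hp hc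
    choose α h₁ h₂ using fun j => haveI := h j
      gabberRoot (I := I j) n hn (p.map (Pi.evalRingHom A j)) (natDegree_map_le.trans hp)
        (fun i => by simpa [coeff_map] using hK.1 (hc i) j)
    refine ⟨α, hK.2 fun j => by simpa using h₁ j, ?_⟩
    funext j
    have h3 := (h₂ j).eq_zero
    have : (Polynomial.map (Pi.evalRingHom A j) (X ^ n * (X - 1) + p)).eval (α j) = 0 := by
      simpa using h3
    rw [eval_map, ← Pi.evalRingHom_apply A j α, eval₂_at_apply] at this
    simpa using this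

theorem pi_iff {ι : Type*} {A : ι → Type*} [∀ j, CommRing (A j)] {I : ∀ j, Ideal (A j)} :
    HenselianRing (∀ j, A j) (⨅ j, Ideal.comap (Pi.evalRingHom A j) (I j)) ↔
      ∀ j, HenselianRing (A j) (I j) := by
  classical
  refine ⟨fun h j => ?_, pi⟩
  have hs : Function.Surjective (Pi.evalRingHom A j) := Function.surjective_eval j
  have : (⨅ j, Ideal.comap (Pi.evalRingHom A j) (I j)).map (Pi.evalRingHom A j) = I j := by
    refine le_antisymm (Ideal.map_le_iff_le_comap.2 (iInf_le _ j)) fun x hx => ?_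
    refine (Ideal.mem_map_iff_of_surjective _ hs).2 ⟨Pi.single j x, ?_, by simp⟩
    simp only [Ideal.mem_iInf, Ideal.mem_comap, Pi.evalRingHom_apply]
    intro i
    rcases eq_or_ne i j with rfl | hij
    · simpa using hx
    · simp [Pi.single_eq_of_ne hij]
  exact this ▸ map_surjective hs

theorem henselianRing_maximalIdeal_iff [IsLocalRing A] :
    HenselianRing A (IsLocalRing.maximalIdeal A) ↔ HenselianLocalRing A := by
  refine ⟨fun h => ⟨fun f hf a₀ h₁ h₂ => h.is_henselian f hf a₀ h₁ (h₂.map _)⟩, fun h => ?_⟩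
  infer_instance

end Groth.Agent.Hensel
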