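import Groth.Agent.Hensel.Idempotent
import Mathlib.RingTheory.ZariskisMainTheorem
import Mathlib.RingTheory.Etale.QuasiFinite
import Mathlib.RingTheory.Smooth.StandardSmoothOfFree
import Mathlib.RingTheory.Localization.Away.Lemmas
import Mathlib.RingTheory.Unramified.LocalStructure

/-!
Lifting étale algebras along quotients and finite étale algebras along Henselian pairs.
-/

namespace Groth.Agent.Hensel

open MvPolynomial

universe u

variable {A : Type u} [CommRing A] {I : Ideal A}

/-- An étale algebra over a quotient lifts to an étale algebra. -/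
theorem exists_etale_lift_of_quotient (C : Type u) [CommRing C] [Algebra A C] [Algebra (A ⧸ I) C]
    [IsScalarTower A (A ⧸ I) C] [Algebra.Etale (A ⧸ I) C] :
    ∃ (A' : Type u) (_ : CommRing A') (_ : Algebra A A') (_ : Algebra.Etale A A') (Φ : A' →ₐ[A] C),
      Function.Surjective Φ ∧ RingHom.ker Φ.toRingHom = I.map (algebraMap A A') := by
  classical
  obtain ⟨ι, σ, _, _, P, hP⟩ :=
    (Algebra.Etale.iff_isStandardSmoothOfRelativeDimension_zero.1 (inferInstance :
      Algebra.Etale (A ⧸ I) C)).out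
  have := Fintype.ofFinite σ
  let m : MvPolynomial ι A →+* MvPolynomial ι (A ⧸ I) := MvPolynomial.map (Ideal.Quotient.mk I)
  have hmsurj : Function.Surjective m := MvPolynomial.map_surjective _ Ideal.Quotient.mk_surjective
  choose L hL using fun j : σ => hmsurj (P.relation j)
  let Q := MvPolynomial ι A ⧸ Ideal.span (Set.range L)
  let P₀ : Algebra.PreSubmersivePresentation A Q ι σ :=
    Algebra.PreSubmersivePresentation.naive (R := A) (v := L) P.map P.map_inj
  let T := Localization.Away P₀.jacobian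
  let P₁ := (Algebra.PreSubmersivePresentation.localizationAway T P₀.jacobian).comp P₀
  have hunit : IsUnit P₁.jacobian := by
    rw [Algebra.PreSubmersivePresentation.comp_jacobian_eq_jacobian_smul_jacobian, Algebra.smul_def,
      Algebra.PreSubmersivePresentation.localizationAway_jacobian, IsUnit.mul_iff]
    exact ⟨IsLocalization.Away.algebraMap_isUnit _, IsLocalization.Away.algebraMap_isUnit _⟩
  let P₂ : Algebra.SubmersivePresentation A T (Unit ⊕ ι) (Unit ⊕ σ) :=
    { P₁ with jacobian_isUnit := hunit }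
  have hcard : Nat.card σ = Nat.card ι := by
    have h1 : Nat.card σ ≤ Nat.card ι := Nat.card_le_card_of_injective _ P.map_inj
    have h2 : Nat.card ι - Nat.card σ = 0 := hP
    omega
  have : Algebra.IsStandardSmoothOfRelativeDimension 0 A T :=
    P₂.isStandardSmoothOfRelativeDimension (by simp [Algebra.Presentation.dimension, ← hcard, Nat.card_eq_fintype_card])
  have : Algebra.Etale A T := inferInstance
  let π : MvPolynomial ι A →ₐ[A] C := aeval P.val
  have hπ : ∀ p, π p = aeval P.val (m p) := fun p => by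
    show aeval P.val p = aeval P.val (MvPolynomial.map (algebraMap A (A ⧸ I)) p)
    rw [MvPolynomial.aeval_map_algebraMap]
  have hπker : ∀ p, π p = 0 → p ∈ Ideal.span (Set.range L) ⊔ I.map (MvPolynomial.C : A →+* MvPolynomial ι A) := by
    intro p hp
    rw [hπ] at hp
    have h1 : m p ∈ Ideal.span (Set.range P.relation) := by
      rw [P.span_range_relation_eq_ker, P.ker_eq_ker_aeval_val]; exact hp
    rw [show Set.range P.relation = m '' Set.range L by rw [← Set.range_comp]; congr 1; ext1 j; exact (hL j).symm,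
      ← Ideal.map_span] at h1
    have h2 : p ∈ ((Ideal.span (Set.range L)).map m).comap m := h1
    rwa [Ideal.comap_map_of_surjective m hmsurj, ← RingHom.ker_eq_comap_bot, MvPolynomial.ker_map,
      Ideal.mk_ker] at h2
  let χ : Q →ₐ[A] C := Ideal.Quotient.liftₐ _ π fun p hp => by
    refine (Ideal.span_le (I := RingHom.ker π.toRingHom)).2 ?_ hp
    rintro _ ⟨j, rfl⟩
    show π (L j) = 0
    rw [hπ, hL]
    exact P.aeval_val_relation j
  have hjac : χ P₀.jacobian = P.jacobian := by
    rw [Algebra.PreSubmersivePresentation.jacobian_eq_jacobiMatrix_det,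
      Algebra.PreSubmersivePresentation.jacobian_eq_jacobiMatrix_det]
    show π P₀.jacobiMatrix.det = algebraMap P.Ring C P.jacobiMatrix.det
    rw [hπ, P.algebraMap_apply]
    congr 1
    rw [RingHom.map_det]
    congr 1
    refine Matrix.ext fun i j => ?_
    simp only [RingHom.mapMatrix_apply, Matrix.map_apply,
      Algebra.PreSubmersivePresentation.jacobiMatrix_apply]
    show m (pderiv (P.map i) (L j)) = pderiv (P.map i) (P.relation j)
    rw [← hL j]
    exact (MvPolynomial.pderiv_map).symm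
  have hju : IsUnit (χ P₀.jacobian) := hjac ▸ P.jacobian_isUnit
  let Φ : T →ₐ[A] C :=
    { toRingHom := IsLocalization.Away.lift (g := χ.toRingHom) P₀.jacobian hju
      commutes' := fun a => by
        show IsLocalization.Away.lift _ _ (algebraMap A T a) = _
        rw [IsScalarTower.algebraMap_apply A Q T, IsLocalization.Away.lift_eq]
        exact χ.commutes a }
  have hΦ : ∀ p, Φ (algebraMap Q T (Ideal.Quotient.mk _ p)) = π p := fun p =>
    IsLocalization.Away.lift_eq _ hju _
  refine ⟨T, inferInstance, inferInstance, inferInstance, Φ, fun c => ?_, le_antisymm ?_ ?_⟩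
  · obtain ⟨p, hp⟩ := hmsurj (P.σ c)
    refine ⟨algebraMap Q T (Ideal.Quotient.mk _ p), ?_⟩
    rw [hΦ, hπ, hp]
    exact P.aeval_val_σ c
  · intro z hz
    obtain ⟨q, s, rfl⟩ := IsLocalization.exists_mk'_eq (Submonoid.powers P₀.jacobian) z
    obtain ⟨p, rfl⟩ := Ideal.Quotient.mk_surjective q
    have hp0 : π p = 0 := by
      rw [← hΦ, ← IsLocalization.mk'_spec T (Ideal.Quotient.mk _ p) s, map_mul]
      rw [show Φ (IsLocalization.mk' T (Ideal.Quotient.mk _ p) s) = 0 from hz, zero_mul]
    have h1 : Ideal.Quotient.mk (Ideal.span (Set.range L)) p ∈ I.map (algebraMap A Q) := by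
      have := Ideal.mem_map_of_mem (Ideal.Quotient.mk (Ideal.span (Set.range L))) (hπker p hp0)
      rwa [Ideal.map_sup, Ideal.map_quotient_self, bot_sup_eq, Ideal.map_map] at this
    rw [IsScalarTower.algebraMap_eq A Q T, ← Ideal.map_map,
      IsLocalization.mk'_mem_map_algebraMap_iff (Submonoid.powers P₀.jacobian)]
    exact ⟨1, one_mem _, by rwa [one_mul]⟩
  · rw [Ideal.map_le_iff_le_comap]
    intro a ha
    show Φ (algebraMap A T a) = 0
    rw [Φ.commutes, IsScalarTower.algebraMap_apply A (A ⧸ I) C]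
    rw [show algebraMap A (A ⧸ I) a = 0 from Ideal.Quotient.eq_zero_iff_mem.2 ha, map_zero]

variable [HenselianRing A I]

/-- In a quasi-finite algebra over a Henselian pair which is finite modulo `I`, an idempotent in
the extension of `I` cuts out a finite algebra. -/
theorem exists_finite_factor {S : Type u} [CommRing S] [Algebra A S] [Algebra.FiniteType A S]
    [Algebra.QuasiFinite A S] (hfin : Module.Finite A (S ⧸ I.map (algebraMap A S))) :
    ∃ e : S, IsIdempotentElem e ∧ e ∈ I.map (algebraMap A S) ∧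
      Module.Finite A (S ⧸ Ideal.span {e}) := by
  classical
  let G : Set S := {r | IsIntegral A r ∧ ∀ x, ∃ m, IsIntegral A (r ^ m * x)}
  have hG : Ideal.span G = ⊤ := by
    by_contra hne
    obtain ⟨p, hp, hle⟩ := Ideal.exists_le_maximal _ hne
    obtain ⟨r, hrp, hr⟩ := Algebra.zariskisMainProperty_iff.1
      (Algebra.ZariskisMainProperty.of_finiteType (R := A) p)
    exact hrp (hle (Ideal.subset_span hr))
  obtain ⟨R, hRG, hR⟩ := Submodule.mem_span_finite_of_mem_span
    (show (1 : S) ∈ Submodule.span S G by rw [← Ideal.span, hG]; trivial)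
  obtain ⟨gens, hgens⟩ := (inferInstance : Algebra.FiniteType A S).out
  choose m hm using fun (r : R) x => (hRG r.2).2 x
  let gs : Set S := (↑R : Set S) ∪ (fun rx : R × gens => rx.1.1 ^ m rx.1 rx.2.1 * rx.2.1) '' Set.univ
  let S' := Algebra.adjoin A gs
  have hgsfin : gs.Finite := R.finite_toSet.union (Set.toFinite _)
  have : Module.Finite A S' := Module.Finite.iff_fg.2 (fg_adjoin_of_finite hgsfin (by
    rintro y (hy | ⟨rx, -, rfl⟩)
    · exact (hRG hy).1
    · exact hm _ _))
  have hRS : ∀ r ∈ R, r ∈ S' := fun r hr => Algebra.subset_adjoin (Or.inl hr)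
  have hpow : ∀ (r : R) x, ∃ n, r.1 ^ n * x ∈ S' := by
    intro r x
    have hx : x ∈ Algebra.adjoin A (gens : Set S) := hgens.symm ▸ Algebra.mem_top
    induction hx using Algebra.adjoin_induction with
    | mem y hy => exact ⟨m r y, Algebra.subset_adjoin (Or.inr ⟨(r, ⟨y, hy⟩), trivial, rfl⟩)⟩
    | algebraMap a => exact ⟨0, by rw [pow_zero, one_mul]; exact S'.algebraMap_mem a⟩
    | add x y _ _ hx hy =>
      obtain ⟨n, hn⟩ := hx
      obtain ⟨k, hk⟩ := hy
      refine ⟨n + k, ?_⟩
      rw [show r.1 ^ (n + k) * (x + y) = r.1 ^ k * (r.1 ^ n * x) + r.1 ^ n * (r.1 ^ k * y) by ring]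
      exact add_mem (mul_mem (pow_mem (hRS _ r.2) _) hn) (mul_mem (pow_mem (hRS _ r.2) _) hk)
    | mul x y _ _ hx hy =>
      obtain ⟨n, hn⟩ := hx
      obtain ⟨k, hk⟩ := hy
      refine ⟨n + k, ?_⟩
      rw [show r.1 ^ (n + k) * (x * y) = (r.1 ^ n * x) * (r.1 ^ k * y) by ring]
      exact mul_mem hn hk
  let J : Ideal S' := Ideal.span (Set.range fun r : R => (⟨r.1, hRS _ r.2⟩ : S'))
  have hJS : J.map S'.val.toRingHom = ⊤ := by
    rw [Ideal.map_span, Ideal.eq_top_iff_one, ← Set.range_comp]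
    refine Submodule.span_mono ?_ hR
    intro r hr
    exact ⟨⟨r, hr⟩, rfl⟩
  let Sb := S ⧸ I.map (algebraMap A S)
  have : Module.Finite S' Sb := Module.Finite.of_restrictScalars_finite A S' Sb
  obtain ⟨k₁, hk₁, hk₁0⟩ := Submodule.exists_sub_one_mem_and_smul_eq_zero_of_fg_of_le_smul J
    (⊤ : Submodule S' Sb) Module.Finite.fg_top (by
      intro z _
      rw [Ideal.smul_top_eq_map, Submodule.restrictScalars_mem]
      have : J.map (algebraMap S' Sb) = ⊤ := by
        show J.map ((Ideal.Quotient.mk _).comp S'.val.toRingHom) = ⊤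
        rw [← Ideal.map_map, hJS, Ideal.map_top]
      rw [this]; trivial)
  have hkI : (k₁ : S) ∈ I.map (algebraMap A S) := by
    rw [← Ideal.Quotient.eq_zero_iff_mem]
    have := hk₁0 1 trivial
    rwa [Algebra.smul_def, mul_one] at this
  let J' : Ideal S' := I.map (algebraMap A S')
  have hkill : ∀ y ∈ I.map (algebraMap A S), ∀ r : R, ∃ n, ∃ z ∈ J', (z : S) = r.1 ^ n * y := by
    intro y hy r
    refine Submodule.span_induction ?_ ?_ ?_ ?_ hy
    · rintro _ ⟨a, ha, rfl⟩
      exact ⟨0, algebraMap A S' a, Ideal.mem_map_of_mem _ ha, by simp⟩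
    · exact ⟨0, 0, zero_mem _, by simp⟩
    · rintro x y _ _ ⟨n, z, hz, hzx⟩ ⟨l, w, hw, hwy⟩
      refine ⟨n + l, ⟨r.1, hRS _ r.2⟩ ^ l * z + ⟨r.1, hRS _ r.2⟩ ^ n * w,
        add_mem (J'.mul_mem_left _ hz) (J'.mul_mem_left _ hw), ?_⟩
      push_cast
      rw [hzx, hwy]; ring
    · rintro c x _ ⟨n, z, hz, hzx⟩
      obtain ⟨l, hl⟩ := hpow r c
      refine ⟨n + l, ⟨_, hl⟩ * z, J'.mul_mem_left _ hz, ?_⟩
      push_cast
      rw [hzx, smul_eq_mul]; ring
  let colon : Ideal S' := J'.colon {k₁}
  have hJrad : J ≤ colon.radical := by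
    rw [Ideal.span_le]
    rintro _ ⟨r, rfl⟩
    obtain ⟨n, z, hz, hzk⟩ := hkill _ hkI r
    refine ⟨n, Submodule.mem_colon_singleton.2 ?_⟩
    convert hz using 1
    exact Subtype.ext hzk.symm
  obtain ⟨N, hN⟩ := hJrad hk₁
  rw [Submodule.mem_colon_singleton, smul_eq_mul] at hN
  obtain ⟨a, b, hab⟩ := (IsCoprime.pow_left (m := N + 1)
    (show IsCoprime (1 - k₁) k₁ from ⟨1, 1, by ring⟩))
  let e₀ : S' := b * k₁
  have he₀ : e₀ * e₀ - e₀ ∈ J' := by
    have h1 : e₀ * e₀ - e₀ = -(a * b * (1 - k₁)) * ((-1) ^ N * ((k₁ - 1) ^ N * k₁)) := by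
      rw [← mul_assoc ((-1 : S') ^ N), ← mul_pow, show (-1 : S') * (k₁ - 1) = 1 - k₁ by ring]
      linear_combination (b * k₁) * hab
    rw [h1]
    exact J'.mul_mem_left _ (J'.mul_mem_left _ hN)
  have hIr : GabberRoot I := gabberRoot
  obtain ⟨e, he, hee⟩ := exists_idempotent_of_finite (HenselianRing.jac (I := I)) hIr he₀
  have hJ'S : ∀ z ∈ J', (z : S) ∈ I.map (algebraMap A S) := fun z hz => by
    have := Ideal.mem_map_of_mem S'.val.toRingHom hz
    rwa [Ideal.map_map, show S'.val.toRingHom.comp (algebraMap A S') = algebraMap A S from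
      RingHom.ext fun _ => rfl] at this
  refine ⟨(e : S), he.map S'.val, ?_, ?_⟩
  · rw [show (e : S) = ((e - e₀ : S') : S) + (b : S) * (k₁ : S) by push_cast [e₀]; ring]
    exact add_mem (hJ'S _ hee) (Ideal.mul_mem_left _ _ hkI)
  let B := S' ⧸ Ideal.span {e}
  have hJB : J.map (Ideal.Quotient.mk (Ideal.span {e})) = ⊤ := by
    by_contra hne
    obtain ⟨M, hM, hle⟩ := Ideal.exists_le_maximal _ hne
    have hIB : I.map (algebraMap A B) ≤ M :=
      (map_le_jacobson_of_isIntegral (HenselianRing.jac (I := I))).trans (sInf_le ⟨bot_le, hM⟩)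
    refine hM.ne_top ((Ideal.eq_top_iff_one _).2 ?_)
    let q := Ideal.Quotient.mk (Ideal.span {e})
    have he' : q e = 0 := Ideal.Quotient.eq_zero_iff_mem.2 (Ideal.mem_span_singleton_self _)
    have hq : q e₀ ∈ M := by
      have h1 : q (e - e₀) ∈ I.map (algebraMap A B) := by
        have := Ideal.mem_map_of_mem q hee
        rwa [Ideal.map_map] at this
      rw [map_sub, he', zero_sub, neg_mem_iff] at h1
      exact hIB h1
    have hq' : q (a * (1 - k₁) ^ (N + 1)) ∈ M := by
      rw [show a * (1 - k₁) ^ (N + 1) = -(a * (1 - k₁) ^ N) * (k₁ - 1) by ring, map_mul]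
      exact M.mul_mem_left _ (hle (Ideal.mem_map_of_mem q hk₁))
    have := add_mem hq' hq
    rwa [← map_add, hab, map_one] at this
  refine Module.Finite.of_surjective (((Ideal.Quotient.mkₐ A (Ideal.span {(e : S)})).comp
    S'.val).toLinearMap) fun z => ?_
  obtain ⟨x, rfl⟩ := Ideal.Quotient.mk_surjective z
  let K : Ideal S' :=
    { carrier := {s | ∃ y : S', Ideal.Quotient.mk (Ideal.span {(e : S)}) ((s : S) * x) =
        Ideal.Quotient.mk _ (y : S)}
      zero_mem' := ⟨0, by simp⟩
      add_mem' := by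
        rintro s t ⟨y, hy⟩ ⟨w, hw⟩
        exact ⟨y + w, by push_cast; rw [add_mul, map_add, map_add, hy, hw]⟩
      smul_mem' := by
        rintro c s ⟨y, hy⟩
        refine ⟨c * y, ?_⟩
        simp only [smul_eq_mul, MulMemClass.coe_mul, mul_assoc, map_mul] at hy ⊢
        rw [hy] }
  have heK : e ∈ K := ⟨0, by
    push_cast
    rw [map_mul, Ideal.Quotient.eq_zero_iff_mem.2 (Ideal.mem_span_singleton_self _), zero_mul,
      map_zero]⟩
  have hrK : ∀ r : R, (⟨r.1, hRS _ r.2⟩ : S') ∈ K.radical := fun r => by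
    obtain ⟨n, hn⟩ := hpow r x
    exact ⟨n, ⟨_, hn⟩, by push_cast; rfl⟩
  have hK1 : K.radical = ⊤ := by
    rw [Ideal.eq_top_iff_one]
    obtain ⟨s, hs, hs1⟩ := (Ideal.mem_map_iff_of_surjective _ Ideal.Quotient.mk_surjective).1
      (hJB.symm ▸ Submodule.mem_top : (1 : B) ∈ J.map (Ideal.Quotient.mk (Ideal.span {e})))
    obtain ⟨c, hc⟩ := Ideal.mem_span_singleton'.1
      (Ideal.Quotient.eq.1 (hs1.trans (map_one (Ideal.Quotient.mk _)).symm))
    rw [show (1 : S') = s - c * e by rw [hc]; ring]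
    exact sub_mem ((Ideal.span_le.2 (by rintro _ ⟨r, rfl⟩; exact hrK r)) hs)
      (Ideal.mul_mem_left _ _ (Ideal.le_radical heK))
  obtain ⟨n, hn⟩ := (Ideal.eq_top_iff_one _).1 hK1
  rw [one_pow] at hn
  obtain ⟨y, hy⟩ := hn
  exact ⟨y, by rw [OneMemClass.coe_one, one_mul] at hy; exact hy.symm⟩

/-- Finite étale algebras lift along Henselian pairs. -/
theorem exists_finite_etale_lift (C : Type u) [CommRing C] [Algebra (A ⧸ I) C]
    [Module.Finite (A ⧸ I) C] [Algebra.Etale (A ⧸ I) C] :
    ∃ (B : Type u) (_ : CommRing B) (_ : Algebra A B), Module.Finite A B ∧ Algebra.Etale A B ∧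
      Nonempty (TensorProduct A (A ⧸ I) B ≃ₐ[A ⧸ I] C) := by
  let _ : Algebra A C := ((algebraMap (A ⧸ I) C).comp (algebraMap A (A ⧸ I))).toAlgebra
  have : IsScalarTower A (A ⧸ I) C := IsScalarTower.of_algebraMap_eq' rfl
  obtain ⟨A', _, _, _, Φ, hΦ, hker⟩ := exists_etale_lift_of_quotient (I := I) C
  have : Module.Finite A C := Module.Finite.trans (A ⧸ I) C
  have hfin : Module.Finite A (A' ⧸ I.map (algebraMap A A')) :=
    Module.Finite.equiv ((Ideal.quotientEquivAlgOfEq A hker.symm).trans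
      (Ideal.quotientKerAlgEquivOfSurjective hΦ)).toLinearEquiv.symm
  obtain ⟨e, he, heI, hB⟩ := exists_finite_factor hfin
  let B := A' ⧸ Ideal.span {e}
  have : IsLocalization.Away (1 - e) B := IsLocalization.away_of_isIdempotentElem he.one_sub
    (by rw [Ideal.Quotient.algebraMap_eq, Ideal.mk_ker, sub_sub_cancel]) Ideal.Quotient.mk_surjective
  have : Algebra.Etale A' B := Algebra.Etale.of_isLocalizationAway (1 - e)
  have hBe : Algebra.Etale A B := Algebra.Etale.comp A A' B
  let Φ' : B →ₐ[A] C := Ideal.Quotient.liftₐ _ Φ fun x hx => by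
    obtain ⟨c, rfl⟩ := Ideal.mem_span_singleton'.1 hx
    have : Φ e = 0 := (hker.ge heI : e ∈ RingHom.ker Φ.toRingHom)
    rw [map_mul, this, mul_zero]
  let Ψ : TensorProduct A (A ⧸ I) B →ₐ[A ⧸ I] C :=
    Algebra.TensorProduct.lift (Algebra.ofId (A ⧸ I) C) Φ' fun _ _ => Commute.all _ _
  have hΨ : ∀ x, Ψ (1 ⊗ₜ[A] x) = Φ' x := fun x => by simp [Ψ]
  refine ⟨B, inferInstance, inferInstance, hB, hBe, ⟨AlgEquiv.ofBijective Ψ ⟨?_, fun c => ?_⟩⟩⟩
  · rw [injective_iff_map_eq_zero]
    intro z hz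
    have hinc : ∀ z : TensorProduct A (A ⧸ I) B, ∃ x : A', z = 1 ⊗ₜ Ideal.Quotient.mk _ x := by
      intro z
      induction z using TensorProduct.induction_on with
      | zero => exact ⟨0, by rw [map_zero, TensorProduct.tmul_zero]⟩
      | tmul a b =>
        obtain ⟨a, rfl⟩ := Ideal.Quotient.mk_surjective a
        obtain ⟨b, rfl⟩ := Ideal.Quotient.mk_surjective b
        refine ⟨algebraMap A A' a * b, ?_⟩
        rw [map_mul, show Ideal.Quotient.mk I a = a • (1 : A ⧸ I) by
          rw [Algebra.smul_def, mul_one]; rfl, TensorProduct.smul_tmul, Algebra.smul_def]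
        rfl
      | add x y hx hy =>
        obtain ⟨x, rfl⟩ := hx
        obtain ⟨y, rfl⟩ := hy
        exact ⟨x + y, by rw [map_add, TensorProduct.tmul_add]⟩
    obtain ⟨x, rfl⟩ := hinc z
    rw [hΨ] at hz
    have hxI : x ∈ I.map (algebraMap A A') := hker.le hz
    clear hz
    refine Submodule.span_induction ?_ ?_ ?_ ?_ hxI
    · rintro _ ⟨a, ha, rfl⟩
      rw [show Ideal.Quotient.mk (Ideal.span {e}) (algebraMap A A' a) = a • (1 : B) by
          rw [Algebra.smul_def, mul_one]; rfl, ← TensorProduct.smul_tmul, Algebra.smul_def, mul_one,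
        show algebraMap A (A ⧸ I) a = 0 from Ideal.Quotient.eq_zero_iff_mem.2 ha,
        TensorProduct.zero_tmul]
    · rw [map_zero, TensorProduct.tmul_zero]
    · intro x y _ _ hx hy
      rw [map_add, TensorProduct.tmul_add, hx, hy, add_zero]
    · intro c x _ hx
      rw [smul_eq_mul, map_mul, ← mul_one (1 : A ⧸ I), ← Algebra.TensorProduct.tmul_mul_tmul, hx,
        mul_zero]
  · obtain ⟨x, rfl⟩ := hΦ c
    exact ⟨1 ⊗ₜ Ideal.Quotient.mk _ x, hΨ _⟩

end Groth.Agent.Hensel
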