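import Groth.Agent.Hensel.Factorization
import Mathlib.LinearAlgebra.Charpoly.ToMatrix
import Mathlib.RingTheory.AdjoinRoot
import Mathlib.RingTheory.IntegralClosure.IntegralRestrict
import Mathlib.RingTheory.Ideal.GoingUp
import Mathlib.RingTheory.Nakayama

/-!
Henselian pairs and idempotents of finite and integral algebras; integral extensions of
Henselian pairs.
-/

namespace Groth.Agent.Hensel

open Polynomial

variable {A : Type*} [CommRing A] {I : Ideal A}

section jacobson

variable {B : Type*} [CommRing B] [Algebra A B]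

theorem map_le_jacobson_of_isIntegral [Algebra.IsIntegral A B] (hI : I ≤ Ideal.jacobson ⊥) :
    I.map (algebraMap A B) ≤ Ideal.jacobson ⊥ := by
  rw [Ideal.jacobson, le_sInf_iff]
  rintro M ⟨-, hM⟩
  have := Ideal.isMaximal_comap_of_isIntegral_of_isMaximal (R := A) M
  exact Ideal.map_le_iff_le_comap.2 (hI.trans (sInf_le ⟨bot_le, this⟩))

theorem idempotent_eq_of_sub_mem_jacobson {R : Type*} [CommRing R] {e e' : R}
    (he : IsIdempotentElem e) (he' : IsIdempotentElem e')
    (h : e - e' ∈ Ideal.jacobson (⊥ : Ideal R)) : e = e' := by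
  have hu : IsUnit (1 + -((e - e') * (e - e'))) :=
    isUnit_add_jacobson isUnit_one (neg_mem (Ideal.mul_mem_left _ _ h))
  have : (e - e') * (1 + -((e - e') * (e - e'))) = 0 := by
    linear_combination (-(e : R) - 1 + 3 * e') * he.eq + (-3 * e + e' + 1) * he'.eq
  exact sub_eq_zero.1 ((IsUnit.mul_left_eq_zero hu).1 this)

theorem injOn_idempotent [Algebra.IsIntegral A B] (hI : I ≤ Ideal.jacobson ⊥) :
    Set.InjOn (Ideal.Quotient.mk (I.map (algebraMap A B))) {e : B | IsIdempotentElem e} :=
  fun _ he _ he' h => idempotent_eq_of_sub_mem_jacobson he he'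
    (map_le_jacobson_of_isIntegral hI (Ideal.Quotient.eq.1 h))

end jacobson

/-- A monic polynomial and a polynomial coprime to it modulo `I ⊆ jac A` are coprime. -/
theorem isCoprime_of_map {g h : A[X]} (hI : I ≤ Ideal.jacobson ⊥) (hg : g.Monic)
    (hc : IsCoprime (g.map (Ideal.Quotient.mk I)) (h.map (Ideal.Quotient.mk I))) :
    IsCoprime g h := by
  obtain ⟨a, b, hab⟩ := hc
  obtain ⟨a, rfl⟩ := Polynomial.map_surjective _ Ideal.Quotient.mk_surjective a
  obtain ⟨b, rfl⟩ := Polynomial.map_surjective _ Ideal.Quotient.mk_surjective b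
  rw [← Polynomial.map_mul, ← Polynomial.map_mul, ← Polynomial.map_add] at hab
  have hmem : a * g + b * h - 1 ∈ I.map C := by
    rw [Ideal.mem_map_C_iff]
    intro n
    rw [← Ideal.Quotient.eq_zero_iff_mem, ← coeff_map, Polynomial.map_sub, hab,
      Polynomial.map_one, sub_self, coeff_zero]
  have := hg.finite_adjoinRoot
  have hjac := map_le_jacobson_of_isIntegral (B := AdjoinRoot g) hI
  have hu : IsUnit (AdjoinRoot.mk g (b * h)) := by
    have h1 : AdjoinRoot.mk g (a * g + b * h - 1) ∈ I.map (algebraMap A (AdjoinRoot g)) := by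
      have := Ideal.mem_map_of_mem (AdjoinRoot.mk g) hmem
      rwa [Ideal.map_map] at this
    have h2 : AdjoinRoot.mk g (b * h) = 1 + AdjoinRoot.mk g (a * g + b * h - 1) := by simp
    rw [h2]
    exact isUnit_add_jacobson isUnit_one (hjac h1)
  obtain ⟨v, hv⟩ := isUnit_iff_exists_inv.1 hu
  obtain ⟨v, rfl⟩ := AdjoinRoot.mk_surjective v
  rw [← map_mul, ← map_one (AdjoinRoot.mk g), AdjoinRoot.mk_eq_mk] at hv
  obtain ⟨q, hq⟩ := hv
  exact ⟨-q, b * v, by linear_combination hq⟩

/-- Lifting of idempotents in finite algebras. -/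
theorem exists_idempotent_of_finite (hI : I ≤ Ideal.jacobson ⊥) (hG : GabberRoot I)
    {B : Type*} [CommRing B] [Algebra A B] [Module.Finite A B] {b : B}
    (hb : b * b - b ∈ I.map (algebraMap A B)) :
    ∃ e : B, IsIdempotentElem e ∧ e - b ∈ I.map (algebraMap A B) := by
  set c := b * b - b with hc
  obtain ⟨p, hp, -, hp', hpc⟩ :=
    LinearMap.exists_monic_and_coeff_mem_pow_and_aeval_eq_zero_of_range_le_smul A
      (LinearMap.mulLeft A c) I (by
        rintro _ ⟨y, rfl⟩
        rw [Ideal.smul_top_eq_map]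
        exact Ideal.mul_mem_right _ _ hb)
  have hpc' : aeval c p = 0 := by
    have h := LinearMap.congr_fun hpc (1 : B)
    rw [show LinearMap.mulLeft A c = Algebra.lmul A B c from rfl, aeval_algHom_apply] at h
    simpa using h
  let π := Ideal.Quotient.mk I
  set d := p.natDegree with hd
  have hpI : p.map π = X ^ d := by
    ext k
    rw [coeff_map, coeff_X_pow]
    rcases lt_trichotomy k d with hk | hk | hk
    · rw [if_neg hk.ne, Ideal.Quotient.eq_zero_iff_mem]
      exact Ideal.pow_le_self (by omega) (hp' k)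
    · subst hk
      rw [if_pos rfl, hd, hp.coeff_natDegree, map_one]
    · rw [if_neg hk.ne', coeff_eq_zero_of_natDegree_lt (hd ▸ hk), map_zero]
  rcases subsingleton_or_nontrivial A with hA | hA
  · exact ⟨b, by
      have : Subsingleton B := RingHom.codomain_trivial (algebraMap A B)
      exact Subsingleton.elim _ _, by simp⟩
  have hq : (X ^ 2 - X : A[X]).Monic :=
    monic_X_pow_sub (by rw [degree_X]; norm_num)
  have hqd : (X ^ 2 - X : A[X]).natDegree ≠ 0 := by
    rw [natDegree_sub_eq_left_of_natDegree_lt] <;> simp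
  set F := p.comp (X ^ 2 - X)
  have hFb : aeval b F = 0 := by
    rw [aeval_comp]
    convert hpc'
    simp [hc, sq]
  have hFI : F.map π = X ^ d * (X - 1) ^ d := by
    rw [Polynomial.map_comp, hpI, X_pow_comp, ← mul_pow]
    simp [mul_sub, sq]
  obtain ⟨g, h, hg, -, hgh, hgI, hhI⟩ :=
    factor_of_gabberRoot hI hG (hp.comp hq hqd) d d hFI
  have hcop : IsCoprime (g.map π) (h.map π) := by
    rw [hgI, hhI]
    exact IsCoprime.pow ⟨1, -1, by ring⟩
  obtain ⟨u, v, huv⟩ := isCoprime_of_map hI hg hcop
  -- `e = (v h)(b)` and `1 - e = (u g)(b)`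
  set e := aeval b (v * h) with he
  set e' := aeval b (u * g) with he'
  have h1 : e' + e = 1 := by rw [he, he', ← map_add, huv, map_one]
  have h0 : e' * e = 0 := by
    rw [he, he', ← map_mul, show u * g * (v * h) = u * v * (g * h) by ring, ← hgh, map_mul, hFb,
      mul_zero]
  have hidem : IsIdempotentElem e' := by
    show e' * e' = e'
    linear_combination e' * h1 - h0
  refine ⟨1 - e, by rwa [← h1, add_sub_cancel_right], ?_⟩
  rw [← h1, add_sub_cancel_right, ← Ideal.Quotient.eq]
  let ρ := Ideal.Quotient.mk (I.map (algebraMap A B))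
  let σ := Ideal.quotientMap (I.map (algebraMap A B)) (algebraMap A B) Ideal.le_comap_map
  have hev : ∀ q : A[X], ρ (aeval b q) = eval₂ σ (ρ b) (q.map π) := by
    intro q
    rw [eval₂_map, aeval_def, hom_eval₂]
    rfl
  have hbb : ρ b * ρ b = ρ b := by rw [← map_mul]; exact Ideal.Quotient.eq.2 hb
  show ρ e' = ρ b
  rcases Nat.eq_zero_or_pos d with hd0 | hd0
  · have : (1 : B) = 0 := by
      have hp1 : p = 1 := hp.natDegree_eq_zero.1 (by omega)
      simpa [hp1] using hpc'
    exact (subsingleton_of_zero_eq_one (by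
      rw [← map_zero ρ, ← map_one ρ, this])).elim _ _
  have hbn : IsIdempotentElem (1 - ρ b) := IsIdempotentElem.one_sub hbb
  have hg' : ρ (aeval b g) = ρ b := by
    rw [hev, hgI, eval₂_pow, eval₂_X]
    exact IsIdempotentElem.pow_eq (show IsIdempotentElem (ρ b) from hbb) hd0.ne'
  have hh' : ρ (aeval b h) * ρ b = 0 := by
    rw [hev, hhI, eval₂_pow, eval₂_sub, eval₂_X, eval₂_one]
    obtain ⟨m, hm⟩ := Nat.exists_eq_succ_of_ne_zero hd0.ne'
    rw [hm, pow_succ, mul_assoc, sub_mul, hbb, one_mul, sub_self, mul_zero]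
  have e1 : ρ e' = ρ (aeval b u) * ρ b := by rw [he', map_mul, map_mul, hg']
  have e2 : ρ e * ρ b = 0 := by rw [he, map_mul, map_mul, mul_assoc, hh', mul_zero]
  have e3 : ρ e' + ρ e = 1 := by rw [← map_add, h1, map_one]
  linear_combination (1 - ρ b) * e1 + ρ b * e3 - e2 - ρ (aeval b u) * hbb

/-- Lifting of idempotents in integral algebras. -/
theorem exists_idempotent_of_isIntegral (hI : I ≤ Ideal.jacobson ⊥) (hG : GabberRoot I)
    {B : Type*} [CommRing B] [Algebra A B] [Algebra.IsIntegral A B] {b : B}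
    (hb : b * b - b ∈ I.map (algebraMap A B)) :
    ∃ e : B, IsIdempotentElem e ∧ e - b ∈ I.map (algebraMap A B) := by
  classical
  obtain ⟨n, r, x, hrx⟩ := Submodule.mem_span_set'.1 (by
    rwa [Ideal.map, Ideal.span] at hb)
  set s : Finset B := insert b (Finset.image r Finset.univ)
  let C := Algebra.adjoin A (s : Set B)
  have : Module.Finite A C := Module.Finite.iff_fg.2
    (fg_adjoin_of_finite s.finite_toSet fun y _ => Algebra.IsIntegral.isIntegral y)
  have hmem : ∀ y ∈ s, y ∈ C := fun y hy => Algebra.subset_adjoin (Finset.mem_coe.2 hy)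
  let b' : C := ⟨b, hmem b (Finset.mem_insert_self _ _)⟩
  have hb' : b' * b' - b' ∈ I.map (algebraMap A C) := by
    choose a ha hax using fun i => (x i).2
    have : b' * b' - b' = ∑ i, (⟨r i, hmem _ (Finset.mem_insert_of_mem
        (Finset.mem_image_of_mem r (Finset.mem_univ i)))⟩ : C) * algebraMap A C (a i) := by
      ext
      simp only [AddSubgroupClass.coe_sub, MulMemClass.coe_mul, AddSubmonoidClass.coe_finset_sum]
      rw [← hrx]
      exact Finset.sum_congr rfl fun i _ => by rw [smul_eq_mul, ← hax i]; rfl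
    rw [this]
    exact sum_mem fun i _ => Ideal.mul_mem_left _ _ (Ideal.mem_map_of_mem _ (ha i))
  obtain ⟨e, he, heb⟩ := exists_idempotent_of_finite hI hG hb'
  refine ⟨(e : B), he.map C.val, ?_⟩
  have := Ideal.mem_map_of_mem C.val.toRingHom heb
  rwa [Ideal.map_map, show C.val.toRingHom.comp (algebraMap A C) = algebraMap A B from
    RingHom.ext fun _ => rfl] at this

theorem surjOn_idempotent [hI : HenselianRing A I] (B : Type*) [CommRing B] [Algebra A B]
    [Algebra.IsIntegral A B] :
    Set.SurjOn (Ideal.Quotient.mk (I.map (algebraMap A B)))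
      {e : B | IsIdempotentElem e} {e | IsIdempotentElem e} := by
  intro x hx
  obtain ⟨b, rfl⟩ := Ideal.Quotient.mk_surjective x
  obtain ⟨e, he, heb⟩ := exists_idempotent_of_isIntegral hI.jac gabberRoot (b := b)
    (Ideal.Quotient.eq.1 (by rw [map_mul]; exact hx))
  exact ⟨e, he, Ideal.Quotient.eq.2 heb⟩

theorem bijOn_idempotent [hI : HenselianRing A I] (B : Type*) [CommRing B] [Algebra A B]
    [Algebra.IsIntegral A B] :
    Set.BijOn (Ideal.Quotient.mk (I.map (algebraMap A B)))
      {e : B | IsIdempotentElem e} {e | IsIdempotentElem e} :=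
  ⟨fun _ he => IsIdempotentElem.map he _, injOn_idempotent hI.jac, surjOn_idempotent B⟩

/-- A simple root modulo `I` lifts as soon as the idempotent `q / q(a₀)` of `A[T]/(f)` modulo
`I` lifts, where `f - f(a₀) = (T - a₀) q`. -/
theorem exists_root_of_idempotent' (hI : I ≤ Ideal.jacobson ⊥) {f : A[X]} (hf : f.Monic) {a₀ : A}
    (h₁ : f.eval a₀ ∈ I) (h₂ : IsUnit (f.derivative.eval a₀))
    (H : ∀ (q : A[X]) (v : A), f - C (f.eval a₀) = (X - C a₀) * q → q.eval a₀ * v = 1 →
      AdjoinRoot.mk f (C v * q * (C v * q) - C v * q) ∈ I.map (algebraMap A (AdjoinRoot f)) →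
      ∃ e : AdjoinRoot f, IsIdempotentElem e ∧
        e - AdjoinRoot.mk f (C v * q) ∈ I.map (algebraMap A (AdjoinRoot f))) :
    ∃ a : A, f.IsRoot a ∧ a - a₀ ∈ I := by
  rcases subsingleton_or_nontrivial A with hA | hA
  · exact ⟨a₀, Subsingleton.elim _ _, by simp⟩
  -- `f = (X - a₀) q + f(a₀)`
  obtain ⟨q, hq⟩ := X_sub_C_dvd_sub_C_eval (a := a₀) (p := f)
  have hqa : q.eval a₀ = f.derivative.eval a₀ := by
    have : f = (X - C a₀) * q + C (f.eval a₀) := by linear_combination hq
    have h := congrArg (fun p => (derivative p).eval a₀) this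
    simpa using h.symm
  obtain ⟨v, hv⟩ := isUnit_iff_exists_inv.1 h₂
  set m := AdjoinRoot.mk f
  set J := I.map (algebraMap A (AdjoinRoot f))
  have hJC : ∀ a ∈ I, m (C a) ∈ J := fun a ha => Ideal.mem_map_of_mem _ ha
  set e₀ := C v * q
  have hTe : m ((X - C a₀) * e₀) ∈ J := by
    have : (X - C a₀) * e₀ = C v * f - C (v * f.eval a₀) := by
      rw [C_mul]; linear_combination -C v * hq
    rw [this, map_sub, map_mul, AdjoinRoot.mk_self, mul_zero, zero_sub]
    exact neg_mem (hJC _ (Ideal.mul_mem_left _ _ h₁))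
  have hidem : m (e₀ * e₀ - e₀) ∈ J := by
    obtain ⟨k, hk⟩ := X_sub_C_dvd_sub_C_eval (a := a₀) (p := q)
    have hCv : C v * C (q.eval a₀) = (1 : A[X]) := by
      rw [← C_mul, mul_comm v, hqa, hv, C_1]
    have : e₀ * e₀ - e₀ = C v * k * ((X - C a₀) * e₀) := by
      linear_combination (C v * e₀) * hk + e₀ * hCv
    rw [this, map_mul]
    exact Ideal.mul_mem_left _ _ hTe
  obtain ⟨e, he, hee'⟩ := H q v hq (by rw [hqa, hv]) hidem
  have := hf.finite_adjoinRoot
  have hJ := map_le_jacobson_of_isIntegral (B := AdjoinRoot f) hI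
  -- coefficient at the top degree
  set n := f.natDegree
  let l : AdjoinRoot f →ₗ[A] A := (lcoeff A (n - 1)).comp (AdjoinRoot.modByMonicHom hf)
  have hlI : ∀ y ∈ J, l y ∈ I := by
    intro y hy
    have : y ∈ I • (⊤ : Submodule A (AdjoinRoot f)) := by rwa [Ideal.smul_top_eq_map]
    have := Submodule.mem_map_of_mem (f := l) this
    rw [Submodule.map_smul''] at this
    exact Submodule.smul_le.2 (fun r hr x _ => I.mul_mem_right _ hr) this
  have hn : n ≠ 0 := by
    intro hn
    have hf1 : f = 1 := hf.natDegree_eq_zero.1 hn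
    rw [hf1] at h₂
    simp at h₂
  have hqdeg : q.natDegree < n ∧ q.coeff (n - 1) = 1 := by
    have hfC : (f - C (f.eval a₀)).Monic := hf.sub_of_left
      (lt_of_le_of_lt degree_C_le (natDegree_pos_iff_degree_pos.1 (Nat.pos_of_ne_zero hn)))
    have hqm : q.Monic := Monic.of_mul_monic_left (monic_X_sub_C a₀) (hq ▸ hfC)
    have hd : n = q.natDegree + 1 := by
      have := congrArg natDegree hq
      rw [natDegree_sub_C, (monic_X_sub_C a₀).natDegree_mul hqm, natDegree_X_sub_C] at this
      omega
    refine ⟨by omega, ?_⟩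
    rw [show n - 1 = q.natDegree by omega]
    exact hqm.coeff_natDegree
  have hle : IsUnit (l e) := by
    have h0 : l (m e₀) = v := by
      simp only [l, LinearMap.comp_apply, m, AdjoinRoot.modByMonicHom_mk, lcoeff_apply]
      rw [(modByMonic_eq_self_iff hf).2, show e₀ = C v * q from rfl, coeff_C_mul, hqdeg.2, mul_one]
      refine degree_lt_degree ?_
      exact lt_of_le_of_lt (natDegree_C_mul_le _ _) hqdeg.1
    refine isUnit_of_sub_mem hI (u := v) (isUnit_iff_exists_inv.2 ⟨_, by rw [mul_comm]; exact hv⟩) ?_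
    rw [← h0, ← map_sub]
    exact hlI _ hee'
  -- `T e ∈ A e`
  have hspan : (Ideal.span {e}).restrictScalars A ≤ Submodule.span A {e} := by
    refine Submodule.le_of_le_smul_of_le_jacobson_bot ?_ hI ?_
    · exact Submodule.FG.restrictScalars (Submodule.fg_span_singleton e)
    intro y hy
    obtain ⟨y, rfl⟩ := Ideal.mem_span_singleton'.1 hy
    obtain ⟨p, rfl⟩ := AdjoinRoot.mk_surjective y
    obtain ⟨k, hk⟩ := X_sub_C_dvd_sub_C_eval (a := a₀) (p := p)
    have hz : m p * e - m (C (p.eval a₀)) * e ∈ J := by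
      have : m (X - C a₀) * e ∈ J := by
        have : m (X - C a₀) * e = m ((X - C a₀) * e₀) + m (X - C a₀) * (e - m e₀) := by
          rw [map_mul]; ring
        rw [this]
        exact add_mem hTe (Ideal.mul_mem_left _ _ hee')
      rw [← sub_mul, ← map_sub, hk, map_mul, mul_comm (m (X - C a₀)), mul_assoc]
      exact Ideal.mul_mem_left _ _ this
    have key : ∀ z ∈ I • (⊤ : Submodule A (AdjoinRoot f)),
        z * e ∈ I • (Ideal.span {e}).restrictScalars A := by
      intro z hz
      refine Submodule.smul_induction_on hz (fun r hr x _ => ?_) fun _ _ h h' => ?_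
      · rw [smul_mul_assoc]
        exact Submodule.smul_mem_smul hr (Ideal.mul_mem_left _ _ (Ideal.mem_span_singleton_self e))
      · rw [add_mul]; exact add_mem h h'
    have : m p * e = m (C (p.eval a₀)) * e + (m p * e - m (C (p.eval a₀)) * e) * e := by
      rw [sub_mul, mul_assoc, mul_assoc, he.eq]; ring
    rw [this]
    refine Submodule.add_mem_sup (Submodule.mem_span_singleton.2 ⟨p.eval a₀, ?_⟩)
      (key _ (by rwa [Ideal.smul_top_eq_map]))
    rw [Algebra.smul_def]
    rfl
  have hTin : AdjoinRoot.root f * e ∈ (Ideal.span {e}).restrictScalars A :=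
    Ideal.mul_mem_left _ _ (Ideal.mem_span_singleton_self e)
  obtain ⟨a, ha⟩ := Submodule.mem_span_singleton.1 (hspan hTin)
  refine ⟨a, ?_, ?_⟩
  · have hpe : ∀ p : A[X], m p * e = p.eval a • e := by
      intro p
      induction p using Polynomial.induction_on' with
      | add p q hp hq => rw [map_add, add_mul, hp, hq, eval_add, add_smul]
      | monomial k c =>
        rw [← C_mul_X_pow_eq_monomial, map_mul, map_pow, eval_mul, eval_C, eval_pow, eval_X,
          mul_assoc, mul_smul, Algebra.smul_def c]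
        congr 1
        induction k with
        | zero => simp
        | succ k ih =>
          rw [pow_succ, mul_assoc, show m X = AdjoinRoot.root f from rfl, ← ha, mul_smul_comm,
            ← show m X = AdjoinRoot.root f from rfl, ih, smul_smul, pow_succ, mul_comm]
    have := hpe f
    rw [AdjoinRoot.mk_self, zero_mul] at this
    have := congrArg l this
    rw [map_zero, map_smul, smul_eq_mul] at this
    exact (IsUnit.mul_left_eq_zero hle).1 this.symm
  · have hmem : (a - a₀) • e ∈ J := by
      have : (a - a₀) • e = m ((X - C a₀) * e₀) + m (X - C a₀) * (e - m e₀) := by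
        rw [sub_smul, ha, Algebra.smul_def, map_mul, map_sub]
        show AdjoinRoot.root f * e - AdjoinRoot.of f a₀ * e = (AdjoinRoot.root f - AdjoinRoot.of f a₀) * m e₀ +
          (AdjoinRoot.root f - AdjoinRoot.of f a₀) * (e - m e₀)
        ring
      rw [this]
      exact add_mem hTe (Ideal.mul_mem_left _ _ hee')
    have := hlI _ hmem
    rw [map_smul, smul_eq_mul] at this
    exact (Ideal.mul_unit_mem_iff_mem I hle).1 this

/-- A simple root modulo `I` lifts as soon as idempotents of `A[T]/(f)` lift. -/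
theorem exists_root_of_idempotent (hI : I ≤ Ideal.jacobson ⊥) {f : A[X]} (hf : f.Monic) {a₀ : A}
    (h₁ : f.eval a₀ ∈ I) (h₂ : IsUnit (f.derivative.eval a₀))
    (H : Set.SurjOn (Ideal.Quotient.mk (I.map (algebraMap A (AdjoinRoot f))))
      {e : AdjoinRoot f | IsIdempotentElem e} {e | IsIdempotentElem e}) :
    ∃ a : A, f.IsRoot a ∧ a - a₀ ∈ I := by
  refine exists_root_of_idempotent' hI hf h₁ h₂ fun q v _ _ hidem => ?_
  rw [map_sub, map_mul] at hidem
  obtain ⟨e, he, hee⟩ := H (a := Ideal.Quotient.mk _ (AdjoinRoot.mk f (C v * q))) (by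
    show _ * _ = _
    rw [← map_mul, Ideal.Quotient.eq]
    exact hidem)
  exact ⟨e, he, Ideal.Quotient.eq.1 hee⟩

theorem of_surjOn_idempotent (hI : I ≤ Ideal.jacobson ⊥)
    (H : ∀ f : A[X], f.Monic →
      Set.SurjOn (Ideal.Quotient.mk (I.map (algebraMap A (AdjoinRoot f))))
        {e : AdjoinRoot f | IsIdempotentElem e} {e | IsIdempotentElem e}) :
    HenselianRing A I :=
  ⟨hI, fun f hf _ h₁ h₂ =>
    exists_root_of_idempotent hI hf h₁ (isUnit_of_quotient hI h₂) (H f hf)⟩

theorem le_jacobson_of_injOn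
    (H : ∀ x ∈ I, Set.InjOn
      (Ideal.Quotient.mk (I.map (algebraMap A (A ⧸ Ideal.span {1 + x}))))
      {e : A ⧸ Ideal.span {1 + x} | IsIdempotentElem e}) :
    I ≤ Ideal.jacobson ⊥ := by
  intro x hx
  rw [Ideal.mem_jacobson_bot]
  intro y
  set z := x * y
  have hz : z ∈ I := I.mul_mem_right _ hx
  rw [add_comm z]
  rw [← Ideal.span_singleton_eq_top, ← Ideal.Quotient.subsingleton_iff]
  refine subsingleton_of_zero_eq_one (H z hz IsIdempotentElem.zero IsIdempotentElem.one ?_)
  rw [Ideal.Quotient.eq]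
  have h1 : algebraMap A (A ⧸ Ideal.span {1 + z}) z = -1 := by
    have : algebraMap A (A ⧸ Ideal.span {1 + z}) (1 + z) = 0 :=
      Ideal.Quotient.eq_zero_iff_mem.2 (Ideal.mem_span_singleton_self _)
    rw [map_add, map_one] at this
    linear_combination this
  rw [zero_sub, ← h1]
  exact Ideal.mem_map_of_mem _ hz

/-- Integral extensions of Henselian pairs are Henselian. -/
theorem of_isIntegral [hI : HenselianRing A I] (B : Type*) [CommRing B] [Algebra A B]
    [Algebra.IsIntegral A B] : HenselianRing B (I.map (algebraMap A B)) := by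
  refine of_surjOn_idempotent (map_le_jacobson_of_isIntegral hI.jac) fun f hf => ?_
  have := hf.finite_adjoinRoot
  have : Algebra.IsIntegral A (AdjoinRoot f) := Algebra.IsIntegral.trans B
  have h := surjOn_idempotent (I := I) (AdjoinRoot f)
  rwa [IsScalarTower.algebraMap_eq A B (AdjoinRoot f), ← Ideal.map_map] at h

end Groth.Agent.Hensel
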