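import Groth.Agent.Hensel.Idempotent
import Mathlib.RingTheory.ZariskisMainTheorem
import Mathlib.RingTheory.Unramified.LocalStructure
import Mathlib.RingTheory.Etale.Basic
import Mathlib.RingTheory.Etale.StandardEtale
import Mathlib.RingTheory.Flat.EquationalCriterion
import Mathlib.RingTheory.Ideal.IdempotentFG
import Mathlib.RingTheory.Smooth.Flat
import Mathlib.RingTheory.Finiteness.ModuleFinitePresentation

/-!
Sections of étale algebras modulo `I` lift along a Henselian pair `(A, I)`, and conversely.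
-/

namespace Groth.Agent.Hensel

open Polynomial

universe u

/-- If `g - c g ∈ K` for the generators `g`, then every element is a constant modulo `K`. -/
theorem exists_sub_algebraMap_mem {R S : Type*} [CommRing R] [CommRing S] [Algebra R S] {t : Set S}
    (K : Ideal S) (h : ∀ g ∈ t, ∃ a : R, g - algebraMap R S a ∈ K) {x : S}
    (hx : x ∈ Algebra.adjoin R t) : ∃ a : R, x - algebraMap R S a ∈ K := by
  induction hx using Algebra.adjoin_induction with
  | mem g hg => exact h g hg
  | algebraMap r => exact ⟨r, by simp⟩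
  | add x y _ _ hx hy =>
    obtain ⟨a, ha⟩ := hx; obtain ⟨b, hb⟩ := hy
    exact ⟨a + b, by rw [map_add, add_sub_add_comm]; exact add_mem ha hb⟩
  | mul x y _ _ hx hy =>
    obtain ⟨a, ha⟩ := hx; obtain ⟨b, hb⟩ := hy
    refine ⟨a * b, ?_⟩
    rw [map_mul, show x * y - algebraMap R S a * algebraMap R S b =
      x * (y - algebraMap R S b) + algebraMap R S b * (x - algebraMap R S a) by ring]
    exact add_mem (K.mul_mem_left _ hb) (K.mul_mem_left _ ha)

variable {A : Type u} [CommRing A] {I : Ideal A}

theorem algebraMap_eq_zero_of_sigma {A' : Type*} [CommRing A'] [Algebra A A']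
    (σ : A' →ₐ[A] A ⧸ I) {x : A'} (hx : x ∈ I.map (algebraMap A A')) : σ x = 0 := by
  have h : I.map (algebraMap A A') ≤ RingHom.ker σ := Ideal.map_le_iff_le_comap.2 fun a ha => by
    rw [Ideal.mem_comap, RingHom.mem_ker, AlgHom.commutes]
    exact Ideal.Quotient.eq_zero_iff_mem.2 ha
  exact h hx

/-- The kernel of a section of an unramified algebra is, modulo `I`, killed by an element mapping
to `1`. -/
theorem exists_annihilator_ker {A' : Type u} [CommRing A'] [Algebra A A']
    [Algebra.FiniteType A A'] [Algebra.FormallyUnramified A A'] (σ : A' →ₐ[A] A ⧸ I) :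
    ∃ u : A', σ u = 1 ∧ ∀ k : A', σ k = 0 → u * k ∈ I.map (algebraMap A A') := by
  classical
  set J := I.map (algebraMap A A')
  set K : Ideal A' := RingHom.ker σ
  have hJK : J ≤ K := fun x hx => algebraMap_eq_zero_of_sigma σ hx
  -- `K = K² + J`
  have hK2 : K ≤ K * K ⊔ J := by
    let Q := A' ⧸ (K * K ⊔ J)
    let π : A' →ₐ[A] Q := Ideal.Quotient.mkₐ A _
    let j : A ⧸ I →ₐ[A] Q := Ideal.Quotient.liftₐ I (Algebra.ofId A Q) fun a ha => by
      show π (algebraMap A A' a) = 0
      exact Ideal.Quotient.eq_zero_iff_mem.2 (le_sup_right (a := K * K) (Ideal.mem_map_of_mem _ ha))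
    let N : Ideal Q := K.map (Ideal.Quotient.mk _)
    have hN : IsNilpotent N := ⟨2, by
      rw [sq, ← Ideal.map_mul, Ideal.zero_eq_bot, Ideal.map_eq_bot_iff_le_ker, Ideal.mk_ker]
      exact le_sup_left⟩
    have heq : π = j.comp σ := Algebra.FormallyUnramified.ext N hN fun x => by
      obtain ⟨a, ha⟩ := Ideal.Quotient.mk_surjective (σ x)
      have hxa : x - algebraMap A A' a ∈ K := by
        rw [RingHom.mem_ker, map_sub, AlgHom.commutes, ← ha]
        exact sub_self _
      show Ideal.Quotient.mk N (π x) = Ideal.Quotient.mk N (j (σ x))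
      rw [Ideal.Quotient.eq, ← ha]
      have : j (Ideal.Quotient.mk I a) = π (algebraMap A A' a) := (π.commutes a).symm
      rw [this, ← map_sub]
      exact Ideal.mem_map_of_mem _ hxa
    intro k hk
    refine Ideal.Quotient.eq_zero_iff_mem.1 (?_ : π k = 0)
    rw [heq, AlgHom.comp_apply, RingHom.mem_ker.1 hk, map_zero]
  -- `K` is finitely generated modulo `J`
  obtain ⟨t, ht⟩ := Algebra.FiniteType.out (R := A) (A := A')
  choose c hc using fun g : A' => Ideal.Quotient.mk_surjective (σ g)
  set y : A' → A' := fun g => g - algebraMap A A' (c g)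
  have hyK : ∀ g, y g ∈ K := fun g => by
    rw [RingHom.mem_ker, map_sub, AlgHom.commutes, ← hc]
    exact sub_self _
  have hKeq : K = J ⊔ Ideal.span (y '' t) := by
    refine le_antisymm (fun k hk => ?_) (sup_le hJK (Ideal.span_le.2 ?_))
    · obtain ⟨a, ha⟩ := exists_sub_algebraMap_mem (R := A) (Ideal.span (y '' t))
        (fun g hg => ⟨c g, Ideal.subset_span ⟨g, hg, rfl⟩⟩) (x := k) (by rw [ht]; trivial)
      have hk' : k - algebraMap A A' a ∈ K := Ideal.span_le.2 (by rintro _ ⟨g, -, rfl⟩; exact hyK g) ha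
      have hσa : σ (algebraMap A A' a) = 0 := by
        have := RingHom.mem_ker.1 hk'
        rwa [map_sub, RingHom.mem_ker.1 hk, zero_sub, neg_eq_zero] at this
      rw [AlgHom.commutes] at hσa
      rw [← add_sub_cancel (algebraMap A A' a) k]
      exact add_mem (Ideal.mem_sup_left (Ideal.mem_map_of_mem _
        (Ideal.Quotient.eq_zero_iff_mem.1 hσa))) (Ideal.mem_sup_right ha)
    · rintro _ ⟨g, -, rfl⟩; exact hyK g
  set Kb := K.map (Ideal.Quotient.mk J)
  have hfg : Kb.FG := by
    have : Kb = Ideal.span ((fun g => Ideal.Quotient.mk J (y g)) '' t) := by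
      simp only [Kb]
      rw [hKeq, Ideal.map_sup, Ideal.map_quotient_self, bot_sup_eq, Ideal.map_span, Set.image_image]
    exact this ▸ Submodule.fg_span (t.finite_toSet.image _)
  have hidem : IsIdempotentElem Kb := by
    refine le_antisymm Ideal.mul_le_right ?_
    calc Kb ≤ (K * K ⊔ J).map (Ideal.Quotient.mk J) := Ideal.map_mono hK2
      _ = Kb * Kb := by rw [Ideal.map_sup, Ideal.map_quotient_self, sup_bot_eq, Ideal.map_mul]
  obtain ⟨ε, hε, hεK⟩ := (Ideal.isIdempotentElem_iff_of_fg Kb hfg).1 hidem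
  obtain ⟨w, rfl⟩ := Ideal.Quotient.mk_surjective ε
  refine ⟨1 - w, ?_, fun k hk => ?_⟩
  · have hw : Ideal.Quotient.mk J w ∈ Kb := hεK ▸ Submodule.mem_span_singleton_self _
    obtain ⟨w', hw', hww⟩ := (Ideal.mem_map_iff_of_surjective _ Ideal.Quotient.mk_surjective).1 hw
    have : σ w = 0 := by
      have h1 := algebraMap_eq_zero_of_sigma σ (Ideal.Quotient.eq.1 hww)
      rwa [map_sub, RingHom.mem_ker.1 hw', zero_sub, neg_eq_zero] at h1
    rw [map_sub, map_one, this, sub_zero]
  · have hk' : Ideal.Quotient.mk J k ∈ Kb := Ideal.mem_map_of_mem _ hk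
    rw [hεK] at hk'
    obtain ⟨z, hz⟩ := Submodule.mem_span_singleton.1 hk'
    rw [← Ideal.Quotient.eq_zero_iff_mem, map_mul, map_sub, map_one, ← hz, smul_eq_mul]
    linear_combination (-z) * hε.eq

/-- A surjective flat finitely presented map `A → L` with kernel in the Jacobson radical is injective. -/
theorem injective_of_flat_of_surjective {L : Type*} [CommRing L] [Algebra A L] [Module.Flat A L]
    [Algebra.FinitePresentation A L] (hs : Function.Surjective (algebraMap A L))
    (hj : RingHom.ker (algebraMap A L) ≤ Ideal.jacobson ⊥) : Function.Injective (algebraMap A L) := by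
  have : Module.Finite A L := Module.Finite.of_surjective (Algebra.linearMap A L) hs
  have := Module.FinitePresentation.of_finite_of_finitePresentation A L
  have := Module.Flat.projective_of_finitePresentation (R := A) (M := L)
  obtain ⟨ι, hι⟩ := Module.projective_lifting_property (Algebra.linearMap A L) LinearMap.id hs
  set ε := ι 1
  have hε : algebraMap A L ε = 1 := LinearMap.congr_fun hι 1
  have hmul : ∀ x : A, x * ε = ι (algebraMap A L x) := fun x => by
    rw [Algebra.algebraMap_eq_smul_one, map_smul, smul_eq_mul]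
  have hidem : IsIdempotentElem ε := by
    show ε * ε = ε
    rw [hmul, hε]
  have h1 : ε = 1 := (idempotent_eq_of_sub_mem_jacobson IsIdempotentElem.one hidem
    (hj (by rw [RingHom.mem_ker, map_sub, hε, map_one, sub_self]))).symm
  rw [injective_iff_map_eq_zero]
  intro x hx
  have := hmul x
  rwa [h1, mul_one, hx, map_zero] at this

theorem exists_pow_mul_mem {A' : Type*} [CommRing A'] [Algebra A A'] (C : Subalgebra A A') (r : C)
    (hpow : ∀ a : A', ∃ m, (r : A') ^ m * a ∈ C) {z : A'} (hz : z ∈ I.map (algebraMap A A')) :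
    ∃ N, ∃ w : C, w ∈ I.map (algebraMap A C) ∧ (w : A') = (r : A') ^ N * z := by
  refine Submodule.span_induction (p := fun z _ =>
    ∃ N, ∃ w : C, w ∈ I.map (algebraMap A C) ∧ (w : A') = (r : A') ^ N * z) ?_ ?_ ?_ ?_ hz
  · rintro _ ⟨a, ha, rfl⟩
    exact ⟨0, algebraMap A C a, Ideal.mem_map_of_mem _ ha, by simp⟩
  · exact ⟨0, 0, zero_mem _, by simp⟩
  · rintro x y - - ⟨N, w, hw, e⟩ ⟨N', w', hw', e'⟩
    refine ⟨N + N', r ^ N' * w + r ^ N * w', add_mem (Ideal.mul_mem_left _ _ hw)
      (Ideal.mul_mem_left _ _ hw'), ?_⟩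
    push_cast
    rw [e, e', pow_add]; ring
  · rintro a x - ⟨N, w, hw, e⟩
    obtain ⟨m, hm⟩ := hpow a
    refine ⟨N + m, ⟨_, hm⟩ * w, Ideal.mul_mem_left _ _ hw, ?_⟩
    push_cast
    rw [e, pow_add, smul_eq_mul]; ring

/-- Sections modulo `I` of étale algebras lift along Henselian pairs. -/
theorem exists_lift_of_etale [hI : HenselianRing A I] {A' : Type u} [CommRing A'] [Algebra A A']
    [Algebra.Etale A A'] (σ : A' →ₐ[A] A ⧸ I) :
    ∃ τ : A' →ₐ[A] A, (Ideal.Quotient.mkₐ A I).comp τ = σ := by
  classical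
  have hft : Algebra.FiniteType A A' := inferInstance
  have hqf : Algebra.QuasiFinite A A' := inferInstance
  have hσs : Function.Surjective σ := fun z => by
    obtain ⟨a, rfl⟩ := Ideal.Quotient.mk_surjective z
    exact ⟨algebraMap A A' a, σ.commutes a⟩
  -- the ideal of the integral closure of "good" denominators
  let C₀ := integralClosure A A'
  let 𝔞 : Ideal C₀ :=
    { carrier := {r | ∀ x : A', ∃ m, IsIntegral A ((r : A') ^ m * x)}
      zero_mem' := fun x => ⟨1, by simpa using isIntegral_zero⟩
      smul_mem' := fun c r hr x => by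
        obtain ⟨m, hm⟩ := hr x
        exact ⟨m, by
          rw [smul_eq_mul, MulMemClass.coe_mul, mul_pow, mul_assoc]
          exact (c.2.pow m).mul hm⟩
      add_mem' := fun {r r'} hr hr' x => by
        obtain ⟨m, hm⟩ := hr x
        obtain ⟨m', hm'⟩ := hr' x
        refine ⟨m + m', ?_⟩
        rw [AddMemClass.coe_add, add_pow, Finset.sum_mul]
        refine IsIntegral.sum _ fun i hi => ?_
        rcases le_total m i with h | h
        · rw [← Nat.sub_add_cancel h, pow_add]
          rw [show (r : A') ^ (i - m) * (r : A') ^ m * (r' : A') ^ (m + m' - (i - m + m)) *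
              ((m + m').choose (i - m + m) : A') * x =
            ((r : A') ^ (i - m) * (r' : A') ^ (m + m' - (i - m + m)) *
              ((m + m').choose (i - m + m) : A')) * ((r : A') ^ m * x) by ring]
          exact (((r.2.pow _).mul (r'.2.pow _)).mul (isIntegral_natCast _)).mul hm
        · obtain ⟨k, hk⟩ := Nat.exists_eq_add_of_le (show m' ≤ m + m' - i by omega)
          rw [hk, pow_add]
          rw [show (r : A') ^ i * ((r' : A') ^ m' * (r' : A') ^ k) * ((m + m').choose i : A') * x =
            ((r : A') ^ i * (r' : A') ^ k * ((m + m').choose i : A')) * ((r' : A') ^ m' * x) by ring]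
          exact (((r.2.pow _).mul (r'.2.pow _)).mul (isIntegral_natCast _)).mul hm' }
  let σ₀ : C₀ →+* A ⧸ I := σ.toRingHom.comp C₀.val.toRingHom
  have hσ₀ : Function.Surjective σ₀ := fun z => by
    obtain ⟨a, rfl⟩ := Ideal.Quotient.mk_surjective z
    exact ⟨algebraMap A C₀ a, σ.commutes a⟩
  have htop : 𝔞.map σ₀ = ⊤ := by
    by_contra h
    obtain ⟨Q, hQ, hle⟩ := Ideal.exists_le_maximal _ h
    let P := Q.comap σ.toRingHom
    have : P.IsPrime := Ideal.IsPrime.comap _
    obtain ⟨r, hrP, hr, hr'⟩ :=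
      Algebra.zariskisMainProperty_iff.1 (Algebra.ZariskisMainProperty.of_finiteType (R := A) P)
    exact hrP (hle (Ideal.mem_map_of_mem σ₀ (x := (⟨r, hr⟩ : C₀)) hr'))
  obtain ⟨⟨r, hr⟩, hr', hσr⟩ := (Ideal.mem_map_iff_of_surjective σ₀ hσ₀).1
    (htop ▸ Submodule.mem_top : (1 : A ⧸ I) ∈ 𝔞.map σ₀)
  change σ r = 1 at hσr
  replace hr' : ∀ x : A', ∃ m, IsIntegral A (r ^ m * x) := hr'
  -- a finite subalgebra `C` with `C[1/r] = A'[1/r]`
  obtain ⟨t, ht⟩ := hft.out
  choose m hm using hr'
  let t' : Set A' := insert r ((fun g => r ^ m g * g) '' t)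
  let C := Algebra.adjoin A t'
  have : Module.Finite A C := Module.Finite.iff_fg.2 (fg_adjoin_of_finite
    ((t.finite_toSet.image _).insert _) (by
      rintro x (rfl | ⟨g, -, rfl⟩)
      · exact hr
      · exact hm g))
  let rC : C := ⟨r, Algebra.subset_adjoin (Set.mem_insert _ _)⟩
  have hpow : ∀ a : A', ∃ n, r ^ n * a ∈ C := by
    intro a
    have ha : a ∈ Algebra.adjoin A (t : Set A') := by rw [ht]; trivial
    induction ha using Algebra.adjoin_induction with
    | mem g hg => exact ⟨m g, Algebra.subset_adjoin (Set.mem_insert_of_mem _ ⟨g, hg, rfl⟩)⟩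
    | algebraMap a => exact ⟨0, by simp⟩
    | add x y _ _ hx hy =>
      obtain ⟨i, hi⟩ := hx; obtain ⟨j, hj⟩ := hy
      refine ⟨i + j, ?_⟩
      rw [show r ^ (i + j) * (x + y) = r ^ j * (r ^ i * x) + r ^ i * (r ^ j * y) by
        rw [pow_add]; ring]
      exact add_mem (mul_mem (pow_mem rC.2 _) hi) (mul_mem (pow_mem rC.2 _) hj)
    | mul x y _ _ hx hy =>
      obtain ⟨i, hi⟩ := hx; obtain ⟨j, hj⟩ := hy
      refine ⟨i + j, ?_⟩
      rw [show r ^ (i + j) * (x * y) = (r ^ i * x) * (r ^ j * y) by rw [pow_add]; ring]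
      exact mul_mem hi hj
  set IC := I.map (algebraMap A C)
  have hIC : ∀ x ∈ IC, σ (x : A') = 0 := fun x hx => by
    exact algebraMap_eq_zero_of_sigma (σ.comp C.val) hx
  obtain ⟨u, hu, huK⟩ := exists_annihilator_ker σ
  obtain ⟨n, hn⟩ := hpow u
  choose c hc using fun g : A' => Ideal.Quotient.mk_surjective (σ g)
  let y : A' → A' := fun g => g - algebraMap A A' (c g)
  have hy : ∀ g, σ (y g) = 0 := fun g => by
    simp only [y, map_sub, AlgHom.commutes]
    rw [← hc]
    exact sub_self _
  choose N w hw hwe using fun g : A' =>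
    exists_pow_mul_mem C rC hpow (huK (y g) (hy g))
  let M := (((t.image fun g => r ^ m g * g) ∪ {r}).sup N)
  let s : C := rC ^ M * ⟨_, hn⟩
  have hσs' : σ (s : A') = 1 := by simp [s, rC, hσr, hu]
  -- `s` kills the kernel of `σ` on `C` modulo `I C`
  have hs : ∀ x : C, σ (x : A') = 0 → s * x ∈ IC := by
    intro x hx
    let Ks : Ideal C := Submodule.comap (LinearMap.mulLeft C s) IC
    obtain ⟨a, ha⟩ := exists_sub_algebraMap_mem (R := A) (t := ((↑) : C → A') ⁻¹' t') Ks
      (fun g hg => ⟨c g, by
        show s * (g - algebraMap A C (c g)) ∈ IC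
        have hgM : N g ≤ M := Finset.le_sup (by
          rcases hg with h | ⟨g', hg', h⟩
          · exact Finset.mem_union_right _ (Finset.mem_singleton.2 h)
          · exact Finset.mem_union_left _ (Finset.mem_image.2 ⟨g', hg', h⟩))
        have : s * (g - algebraMap A C (c g)) = rC ^ (M - N g) * rC ^ n * w g := by
          apply Subtype.ext
          simp only [MulMemClass.coe_mul, SubmonoidClass.coe_pow, AddSubgroupClass.coe_sub,
            Subalgebra.coe_algebraMap, s, rC, hwe, y]
          conv_lhs => rw [← Nat.sub_add_cancel hgM, pow_add]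
          ring
        rw [this]
        exact Ideal.mul_mem_left _ _ (hw g)⟩) (x := x)
      (by rw [Algebra.adjoin_adjoin_coe_preimage]; trivial)
    rw [← add_sub_cancel (algebraMap A C a) x, mul_add]
    refine add_mem (Ideal.mul_mem_left _ _ (Ideal.mem_map_of_mem _ ?_)) ha
    rw [← Ideal.Quotient.eq_zero_iff_mem]
    have h1 := algebraMap_eq_zero_of_sigma (I := I) σ
      (x := ((s * (x - algebraMap A C a) : C) : A')) (by
        have ha' : s * (x - algebraMap A C a) ∈ IC := ha
        have := Ideal.mem_map_of_mem C.val.toRingHom ha'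
        rwa [Ideal.map_map, show C.val.toRingHom.comp (algebraMap A C) = algebraMap A A' from
          RingHom.ext fun _ => rfl] at this)
    rw [MulMemClass.coe_mul, map_mul, hσs', one_mul, AddSubgroupClass.coe_sub, map_sub, hx,
      zero_sub, neg_eq_zero, Subalgebra.coe_algebraMap, AlgHom.commutes] at h1
    exact h1
  -- the idempotent
  obtain ⟨e, he, hes⟩ := exists_idempotent_of_finite hI.jac gabberRoot (B := C) (b := s) (by
    rw [show s * s - s = s * (s - 1) by ring]
    exact hs _ (by simp [hσs']))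
  have hek : ∀ x : C, σ (x : A') = 0 → e * x ∈ IC := fun x hx => by
    rw [show e * x = s * x + (e - s) * x by ring]
    exact add_mem (hs x hx) (Ideal.mul_mem_right _ _ hes)
  have hσe : σ (e : A') = 1 := by
    have := hIC _ hes
    rwa [AddSubgroupClass.coe_sub, map_sub, hσs', sub_eq_zero] at this
  -- `L = A'[1/(r e)]` is isomorphic to `A`
  let L := Localization.Away (r * (e : A'))
  let φ : C →ₐ[A] L := (IsScalarTower.toAlgHom A A' L).comp C.val
  have hunit := IsLocalization.Away.algebraMap_isUnit (S := L) (r * (e : A'))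
  rw [map_mul, IsUnit.mul_iff] at hunit
  have hφe : φ e = 1 := (IsIdempotentElem.iff_eq_one_of_isUnit (M := L) hunit.2).1 (he.map φ)
  let S := φ.range
  have : Module.Finite A S := Module.Finite.of_surjective φ.rangeRestrict.toLinearMap
    φ.rangeRestrict_surjective
  have hφI : ∀ x : C, σ (x : A') = 0 → φ.rangeRestrict x ∈ I.map (algebraMap A S) := by
    intro x hx
    have h1 := Ideal.mem_map_of_mem φ.rangeRestrict.toRingHom (hek x hx)
    rw [Ideal.map_map, show φ.rangeRestrict.toRingHom.comp (algebraMap A C) = algebraMap A S from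
      RingHom.ext φ.rangeRestrict.commutes] at h1
    have he1 : φ.rangeRestrict e = 1 := Subtype.ext hφe
    change φ.rangeRestrict (e * x) ∈ _ at h1
    rwa [map_mul, he1, one_mul] at h1
  obtain ⟨v, hv⟩ := isUnit_iff_exists_inv.1 (isUnit_of_sub_mem
    (map_le_jacobson_of_isIntegral (B := S) hI.jac) isUnit_one
    (v := φ.rangeRestrict rC) (by
      simpa using hφI (rC - 1) (by simp [rC, hσr])))
  have hv' : algebraMap A' L r * (v : L) = 1 := congrArg Subtype.val hv
  have hsurjφ : ∀ l : L, l ∈ S := by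
    intro l
    obtain ⟨k, a, hla⟩ := IsLocalization.Away.surj (r * (e : A')) l
    obtain ⟨j, hj⟩ := hpow a
    have heL : algebraMap A' L (e : A') = 1 := hφe
    rw [map_mul, heL, mul_one] at hla
    have : l = φ ⟨_, hj⟩ * (v : L) ^ (j + k) := by
      show l = algebraMap A' L (r ^ j * a) * _
      rw [map_mul, map_pow, ← hla]
      calc l = l * (algebraMap A' L r * (v : L)) ^ (j + k) := by rw [hv', one_pow, mul_one]
        _ = _ := by rw [mul_pow, pow_add (algebraMap A' L r)]; ring
    rw [this]
    exact mul_mem ⟨_, rfl⟩ (pow_mem v.2 _)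
  have : Module.Finite A L := Module.Finite.of_surjective S.val.toLinearMap
    fun l => ⟨⟨l, hsurjφ l⟩, rfl⟩
  have hsurj : Function.Surjective (algebraMap A L) := by
    have : (⊤ : Submodule A L) ≤ LinearMap.range (Algebra.linearMap A L) := by
      refine Submodule.le_of_le_smul_of_le_jacobson_bot Module.Finite.fg_top hI.jac fun l _ => ?_
      obtain ⟨x, rfl⟩ := hsurjφ l
      show φ x ∈ _
      obtain ⟨a, ha⟩ := Ideal.Quotient.mk_surjective (σ (x : A'))
      rw [← add_sub_cancel (algebraMap A L a) (φ x)]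
      refine Submodule.add_mem_sup ⟨a, rfl⟩ ?_
      rw [Ideal.smul_top_eq_map]
      have h1 := Ideal.mem_map_of_mem S.val.toRingHom (hφI (x - algebraMap A C a) (by
        rw [AddSubgroupClass.coe_sub, map_sub, Subalgebra.coe_algebraMap, AlgHom.commutes, ← ha]
        exact sub_self _))
      rw [Ideal.map_map, show S.val.toRingHom.comp (algebraMap A S) = algebraMap A L from
        RingHom.ext fun _ => rfl, map_sub, AlgHom.commutes] at h1
      exact h1
    exact fun l => this (x := l) trivial
  have hσre : IsUnit (σ (r * (e : A'))) := by rw [map_mul, hσr, hσe, one_mul]; exact isUnit_one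
  let σL : L →ₐ[A] A ⧸ I :=
    { toRingHom := IsLocalization.Away.lift (g := σ.toRingHom) (r * (e : A')) hσre
      commutes' := fun a => by
        show IsLocalization.Away.lift _ _ (algebraMap A L a) = _
        rw [IsScalarTower.algebraMap_apply A A' L, IsLocalization.Away.lift_eq]
        exact σ.commutes a }
  have : Algebra.Etale A L := inferInstance
  have hinj := injective_of_flat_of_surjective (L := L) hsurj fun x hx => hI.jac (by
    have h1 := σL.commutes x
    rw [RingHom.mem_ker.1 hx, map_zero] at h1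
    exact Ideal.Quotient.eq_zero_iff_mem.1 h1.symm)
  let eq := RingEquiv.ofBijective (algebraMap A L) ⟨hinj, hsurj⟩
  refine ⟨{ toRingHom := eq.symm.toRingHom.comp (algebraMap A' L), commutes' := fun a => ?_ }, ?_⟩
  · show eq.symm (algebraMap A' L (algebraMap A A' a)) = a
    rw [← IsScalarTower.algebraMap_apply, RingEquiv.symm_apply_eq]
    rfl
  · refine AlgHom.ext fun x => ?_
    show Ideal.Quotient.mk I (eq.symm (algebraMap A' L x)) = σ x
    have h1 := σL.commutes (eq.symm (algebraMap A' L x))
    rw [show algebraMap A L (eq.symm (algebraMap A' L x)) = algebraMap A' L x from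
      eq.apply_symm_apply _] at h1
    rw [← Ideal.Quotient.algebraMap_eq, ← h1]
    exact IsLocalization.Away.lift_eq _ hσre x

/-- Lifting of sections of étale algebras characterises Henselian pairs. -/
theorem of_exists_lift
    (h : ∀ (A' : Type u) [CommRing A'] [Algebra A A'] [Algebra.Etale A A']
      (σ : A' →ₐ[A] A ⧸ I), ∃ τ : A' →ₐ[A] A, (Ideal.Quotient.mkₐ A I).comp τ = σ) :
    HenselianRing A I := by
  have hjac : I ≤ Ideal.jacobson ⊥ := by
    intro x hx
    rw [Ideal.mem_jacobson_bot]
    intro y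
    set z := x * y + 1
    have : Algebra.Etale A (Localization.Away z) := Algebra.Etale.of_isLocalizationAway z
    have hz : IsUnit (algebraMap A (A ⧸ I) z) := by
      rw [Ideal.Quotient.algebraMap_eq, map_add, map_one,
        Ideal.Quotient.eq_zero_iff_mem.2 (I.mul_mem_right _ hx), zero_add]
      exact isUnit_one
    obtain ⟨τ, -⟩ := h (Localization.Away z) (IsLocalization.liftAlgHom (M := Submonoid.powers z)
      (f := Algebra.ofId A (A ⧸ I)) (fun ⟨_, k, hk⟩ => by subst hk; simpa using hz.pow k))
    have h1 := (IsLocalization.Away.algebraMap_isUnit (S := Localization.Away z) z).map τ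
    rwa [AlgHom.commutes] at h1
  refine ⟨hjac, fun f hf a₀ h₁ h₂ => ?_⟩
  let P : StandardEtalePair A := ⟨f, hf, derivative f, ⟨1, 0, 1, by simp⟩⟩
  have hmap : P.HasMap (Ideal.Quotient.mk I a₀) := by
    refine ⟨?_, ?_⟩
    · show aeval (Ideal.Quotient.mk I a₀) f = 0
      rw [← Ideal.Quotient.algebraMap_eq, aeval_algebraMap_apply, coe_aeval_eq_eval]
      exact Ideal.Quotient.eq_zero_iff_mem.2 h₁
    · show IsUnit (aeval (Ideal.Quotient.mk I a₀) (derivative f))
      rw [← Ideal.Quotient.algebraMap_eq, aeval_algebraMap_apply, coe_aeval_eq_eval]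
      exact h₂
  obtain ⟨τ, hτ⟩ := h P.Ring (P.lift _ hmap)
  refine ⟨τ P.X, ?_, ?_⟩
  · show f.eval (τ P.X) = 0
    rw [← coe_aeval_eq_eval, aeval_algHom_apply, show aeval P.X f = 0 from P.hasMap_X.1, map_zero]
  · rw [← Ideal.Quotient.eq]
    exact (AlgHom.congr_fun hτ P.X).trans (P.lift_X _ hmap)

end Groth.Agent.Hensel
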