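import Groth.Agent.Hensel.Lift
import Groth.Agent.Hensel.Etale
import Mathlib.AlgebraicGeometry.Morphisms.Smooth
import Mathlib.AlgebraicGeometry.Morphisms.Etale
import Mathlib.RingTheory.Unramified.LocalRing
import Mathlib.RingTheory.Etale.StandardEtale
import Mathlib.FieldTheory.IsSepClosed

/-!
Sections of smooth and étale schemes over Henselian local rings.
-/

namespace Groth.Agent.Hensel

open CategoryTheory AlgebraicGeometry IsLocalRing

universe u

variable {A : Type u} [CommRing A]

theorem exists_affine_presentation {X : Scheme.{u}} (f : X ⟶ Spec (CommRingCat.of A)) (x : X) :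
    ∃ (S : Type u) (_ : CommRing S) (_ : Algebra A S) (j : Spec (CommRingCat.of S) ⟶ X)
      (_ : IsOpenImmersion j), x ∈ Set.range j.base ∧
      j ≫ f = Spec.map (CommRingCat.ofHom (algebraMap A S)) := by
  obtain ⟨U, hU, hxU, -⟩ := exists_isAffineOpen_mem_and_subset (U := ⊤) (x := x) trivial
  let φ := Spec.preimage (hU.fromSpec ≫ f)
  let : Algebra A Γ(X, U) := φ.hom.toAlgebra
  refine ⟨Γ(X, U), inferInstance, inferInstance, hU.fromSpec, inferInstance, ?_, ?_⟩
  · rw [hU.range_fromSpec]; exact hxU
  · exact (Spec.map_preimage _).symm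

theorem exists_section_of_smooth [HenselianLocalRing A] {X : Scheme.{u}}
    (f : X ⟶ Spec (CommRingCat.of A)) [Smooth f]
    (u₀ : Spec (CommRingCat.of (ResidueField A)) ⟶ X)
    (h₀ : u₀ ≫ f = Spec.map (CommRingCat.ofHom (residue A))) :
    ∃ u : Spec (CommRingCat.of A) ⟶ X, u ≫ f = 𝟙 _ ∧
      Spec.map (CommRingCat.ofHom (residue A)) ≫ u = u₀ := by
  haveI : HenselianRing A (maximalIdeal A) := henselianRing_maximalIdeal_iff.2 inferInstance
  obtain ⟨S, _, _, j, hj, hx, hjf⟩ :=
    exists_affine_presentation f (u₀.base (closedPoint (ResidueField A)))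
  have hsm : Smooth (Spec.map (CommRingCat.ofHom (algebraMap A S))) := by
    rw [← hjf]; infer_instance
  rw [HasRingHomProperty.Spec_iff (P := @Smooth)] at hsm
  have : Algebra.Smooth A S := RingHom.smooth_algebraMap.1 hsm
  have hrange : Set.range u₀.base ⊆ Set.range j.base := by
    rintro _ ⟨z, rfl⟩
    rwa [show z = closedPoint (ResidueField A) from Subsingleton.elim _ _]
  let ψ := Spec.preimage (IsOpenImmersion.lift j u₀ hrange)
  have hψ : Spec.map ψ ≫ j = u₀ := by rw [Spec.map_preimage, IsOpenImmersion.lift_fac]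
  have hcomm : CommRingCat.ofHom (algebraMap A S) ≫ ψ = CommRingCat.ofHom (residue A) := by
    apply Spec.map_injective
    rw [Spec.map_comp, ← hjf, ← Category.assoc, hψ, h₀]
  let σ : S →ₐ[A] A ⧸ maximalIdeal A :=
    { toRingHom := ψ.hom
      commutes' := fun a => congr($(hcomm).hom a) }
  obtain ⟨τ, hτ⟩ := exists_lift_of_smooth σ
  refine ⟨Spec.map (CommRingCat.ofHom τ.toRingHom) ≫ j, ?_, ?_⟩
  · rw [Category.assoc, hjf, ← Spec.map_comp, ← Spec.map_id]
    congr 1
    exact CommRingCat.hom_ext (RingHom.ext τ.commutes)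
  · rw [← Category.assoc, ← Spec.map_comp, ← hψ]
    congr 2
    exact CommRingCat.hom_ext (RingHom.ext fun z => AlgHom.congr_fun hτ z)

theorem exists_section_of_etale [HenselianLocalRing A] [IsSepClosed (ResidueField A)]
    {X : Scheme.{u}} (f : X ⟶ Spec (CommRingCat.of A)) [Etale f] (x : X)
    (hx : f.base x = closedPoint A) :
    ∃ u : Spec (CommRingCat.of A) ⟶ X, u ≫ f = 𝟙 _ ∧ u.base (closedPoint A) = x := by
  haveI : HenselianRing A (maximalIdeal A) := henselianRing_maximalIdeal_iff.2 inferInstance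
  obtain ⟨S, _, _, j, hj, ⟨p, rfl⟩, hjf⟩ := exists_affine_presentation f x
  have het : Etale (Spec.map (CommRingCat.ofHom (algebraMap A S))) := by
    rw [← hjf]; infer_instance
  rw [HasRingHomProperty.Spec_iff (P := @Etale)] at het
  have : Algebra.Etale A S := RingHom.etale_algebraMap.1 het
  have hp : p.asIdeal.comap (algebraMap A S) = maximalIdeal A := by
    have h1 : (j ≫ f).base p = closedPoint A := hx
    rw [hjf] at h1
    exact congrArg PrimeSpectrum.asIdeal h1
  let P := p.asIdeal
  let L := Localization.AtPrime P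
  have : IsLocalHom (algebraMap A L) := ⟨fun a ha => by
    rw [IsScalarTower.algebraMap_apply A S L] at ha
    by_contra hna
    have h2 : a ∈ P.comap (algebraMap A S) := hp ▸ (mem_maximalIdeal a).2 hna
    exact ((IsLocalization.AtPrime.isUnit_to_map_iff L P _).1 ha) h2⟩
  have : Algebra.FormallyUnramified A L := .comp A S L
  have : Algebra.EssFiniteType A L := .comp A S L
  let e : ResidueField A ≃ₐ[ResidueField A] ResidueField L :=
    AlgEquiv.ofBijective (Algebra.ofId _ _)
      ⟨(algebraMap (ResidueField A) (ResidueField L)).injective,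
        IsSepClosed.algebraMap_surjective (ResidueField A) (ResidueField L)⟩
  let σ : S →ₐ[A] A ⧸ maximalIdeal A :=
    (e.symm.toAlgHom.restrictScalars A).comp
      (((IsScalarTower.toAlgHom A L (ResidueField L))).comp (IsScalarTower.toAlgHom A S L))
  obtain ⟨τ, hτ⟩ := exists_lift_of_etale σ
  refine ⟨Spec.map (CommRingCat.ofHom τ.toRingHom) ≫ j, ?_, ?_⟩
  · rw [Category.assoc, hjf, ← Spec.map_comp, ← Spec.map_id]
    congr 1
    exact CommRingCat.hom_ext (RingHom.ext τ.commutes)
  · show j.base (PrimeSpectrum.comap τ.toRingHom (closedPoint A)) = j.base p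
    congr 1
    refine PrimeSpectrum.ext (Ideal.ext fun z => ?_)
    show τ z ∈ maximalIdeal A ↔ z ∈ P
    rw [← Ideal.Quotient.eq_zero_iff_mem]
    have h1 := AlgHom.congr_fun hτ z
    simp only [AlgHom.comp_apply, Ideal.Quotient.mkₐ_eq_mk] at h1
    rw [h1]
    show e.symm (algebraMap L (ResidueField L) (algebraMap S L z)) = 0 ↔ _
    rw [map_eq_zero_iff _ e.symm.injective]
    show residue L (algebraMap S L z) = 0 ↔ _
    rw [residue_eq_zero_iff, IsLocalization.AtPrime.to_map_mem_maximal_iff L P]

theorem henselianLocalRing_and_isSepClosed_of_sections [IsLocalRing A]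
    (h : ∀ (X : Scheme.{u}) (f : X ⟶ Spec (CommRingCat.of A)), Etale f →
      ∀ x : X, f.base x = closedPoint A →
        ∃ u : Spec (CommRingCat.of A) ⟶ X, u ≫ f = 𝟙 _ ∧ u.base (closedPoint A) = x) :
    HenselianLocalRing A ∧ IsSepClosed (ResidueField A) := by
  have key : ∀ (S : Type u) [CommRing S] [Algebra A S] [Algebra.Etale A S] (p : PrimeSpectrum S),
      p.asIdeal.comap (algebraMap A S) = maximalIdeal A →
      ∃ τ : S →ₐ[A] A, ∀ z, τ z ∈ maximalIdeal A ↔ z ∈ p.asIdeal := by
    intro S _ _ _ p hp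
    have het : Etale (Spec.map (CommRingCat.ofHom (algebraMap A S))) := by
      rw [HasRingHomProperty.Spec_iff (P := @Etale)]
      exact RingHom.etale_algebraMap.2 inferInstance
    obtain ⟨u, hu, hup⟩ := h _ _ het p (PrimeSpectrum.ext hp)
    have hc : CommRingCat.ofHom (algebraMap A S) ≫ Spec.preimage u = 𝟙 _ := by
      apply Spec.map_injective
      rw [Spec.map_comp, Spec.map_preimage, hu, Spec.map_id]
    let τ : S →ₐ[A] A :=
      { toRingHom := (Spec.preimage u).hom
        commutes' := fun a => congr($(hc).hom a) }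
    refine ⟨τ, fun z => ?_⟩
    have h2 : (Spec.map (Spec.preimage u)).base (closedPoint A) = p := by
      rw [Spec.map_preimage]; exact hup
    rw [← h2]
    rfl
  refine ⟨henselianRing_maximalIdeal_iff.1 (of_exists_lift fun S _ _ _ σ => ?_), ?_⟩
  · let q : PrimeSpectrum S := PrimeSpectrum.comap σ.toRingHom ⊥
    have hker : ∀ z, z ∈ q.asIdeal ↔ σ z = 0 := fun z => Iff.rfl
    obtain ⟨τ, hτ⟩ := key S q (by
      ext a
      rw [Ideal.mem_comap, hker, σ.commutes]
      exact Ideal.Quotient.eq_zero_iff_mem)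
    refine ⟨τ, AlgHom.ext fun z => ?_⟩
    obtain ⟨a, ha⟩ := Ideal.Quotient.mk_surjective (σ z)
    show Ideal.Quotient.mk _ (τ z) = σ z
    rw [← ha, Ideal.Quotient.eq]
    have h1 : z - algebraMap A S a ∈ q.asIdeal := by
      rw [hker, map_sub, σ.commutes, ← ha]
      exact sub_self _
    have h2 := (hτ _).2 h1
    rwa [map_sub, τ.commutes] at h2
  · refine IsSepClosed.of_exists_root _ fun g hg hirr hsep => ?_
    obtain ⟨F, hFg, -, hF⟩ := Polynomial.lifts_and_degree_eq_and_monic
      (f := residue A) (p := g) ((Polynomial.mem_lifts g).2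
        (Polynomial.map_surjective _ residue_surjective g)) hg
    let P : StandardEtalePair A :=
      { f := F
        monic_f := hF
        g := Polynomial.derivative F
        cond := ⟨1, 0, 1, by simp⟩ }
    have := Fact.mk hirr
    let K := AdjoinRoot g
    let : Algebra A K := ((AdjoinRoot.of g).comp (residue A)).toAlgebra
    have hev : ∀ Q : Polynomial A, Polynomial.aeval (AdjoinRoot.root g : K) Q =
        AdjoinRoot.mk g (Q.map (residue A)) := fun Q => by
      rw [Polynomial.aeval_def, ← AdjoinRoot.aeval_eq, Polynomial.aeval_def, Polynomial.eval₂_map]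
      rfl
    have hmap : P.HasMap (AdjoinRoot.root g : K) := by
      refine ⟨by rw [hev, hFg, AdjoinRoot.mk_self], ?_⟩
      rw [hev, ← Polynomial.derivative_map, hFg]
      refine isUnit_iff_ne_zero.2 fun h0 => ?_
      have := hsep.isUnit_of_dvd' dvd_rfl (AdjoinRoot.mk_eq_zero.1 h0)
      exact hirr.not_isUnit this
    let χ := P.lift _ hmap
    obtain ⟨τ, hτ⟩ := key P.Ring (PrimeSpectrum.comap χ.toRingHom ⊥) (by
      ext a
      show χ (algebraMap A P.Ring a) = 0 ↔ _
      rw [χ.commutes]
      show AdjoinRoot.of g (residue A a) = 0 ↔ _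
      rw [map_eq_zero, residue_eq_zero_iff])
    refine ⟨residue A (τ P.X), ?_⟩
    have h1 : Polynomial.aeval (τ P.X) F = 0 := by
      rw [Polynomial.aeval_algHom_apply, P.hasMap_X.1, map_zero]
    rw [← hFg, Polynomial.eval_map, Polynomial.eval₂_hom]
    rw [Polynomial.coe_aeval_eq_eval] at h1
    rw [h1, map_zero]

end Groth.Agent.Hensel
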