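import Groth.Agent.Hensel.Etale
import Mathlib.RingTheory.Smooth.Basic
import Mathlib.RingTheory.Smooth.StandardSmoothCotangent
import Mathlib.LinearAlgebra.Matrix.Charpoly.Coeff
import Mathlib.Algebra.MvPolynomial.PDeriv
import Mathlib.RingTheory.Nakayama

/-!
Newton/Hensel for square systems along a Henselian pair, and lifting of sections of smooth algebras.
-/

namespace Groth.Agent.Hensel

universe u

open MvPolynomial

variable {A : Type u} [CommRing A] {I : Ideal A}

theorem eval_sub_eval_mem' {σ : Type*} (f : MvPolynomial σ A) {a b : σ → A}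
    (h : ∀ i, a i - b i ∈ I) : eval a f - eval b f ∈ I := by
  rw [← Ideal.Quotient.eq, eval, coe_eval₂Hom, eval₂_comp_left, eval, coe_eval₂Hom, eval₂_comp_left]
  congr 1
  funext i
  exact Ideal.Quotient.eq.2 (h i)

/-- Multivariate Hensel lemma along a Henselian pair. -/
theorem exists_zero_of_isUnit_jacobian [HenselianRing A I] (n : ℕ)
    (P : Fin n → MvPolynomial (Fin n) A) (a₀ : Fin n → A) (h₀ : ∀ i, eval a₀ (P i) ∈ I)
    (hJ : IsUnit (Ideal.Quotient.mk I
      (Matrix.of fun i j => eval a₀ (pderiv j (P i))).det)) :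
    ∃ a : Fin n → A, (∀ i, eval a (P i) = 0) ∧ ∀ j, a j - a₀ j ∈ I := by
  let Q := MvPolynomial (Fin n) A ⧸ Ideal.span (Set.range P)
  let P₀ : Algebra.PreSubmersivePresentation A Q (Fin n) (Fin n) :=
    Algebra.PreSubmersivePresentation.naive (R := A) (v := P) id Function.injective_id
  let T := Localization.Away P₀.jacobian
  let P₁ := (Algebra.PreSubmersivePresentation.localizationAway T P₀.jacobian).comp P₀
  have hunit : IsUnit P₁.jacobian := by
    rw [Algebra.PreSubmersivePresentation.comp_jacobian_eq_jacobian_smul_jacobian, Algebra.smul_def,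
      Algebra.PreSubmersivePresentation.localizationAway_jacobian, IsUnit.mul_iff]
    exact ⟨IsLocalization.Away.algebraMap_isUnit _, IsLocalization.Away.algebraMap_isUnit _⟩
  let P₂ : Algebra.SubmersivePresentation A T (Unit ⊕ Fin n) (Unit ⊕ Fin n) :=
    { P₁ with jacobian_isUnit := hunit }
  have : Algebra.IsStandardSmoothOfRelativeDimension 0 A T :=
    P₂.isStandardSmoothOfRelativeDimension (by simp [Algebra.Presentation.dimension])
  have : Algebra.Etale A T := inferInstance
  let b₀ : Fin n → A ⧸ I := fun i => Ideal.Quotient.mk I (a₀ i)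
  have hev : ∀ f : MvPolynomial (Fin n) A, aeval b₀ f = Ideal.Quotient.mk I (eval a₀ f) := fun f => by
    rw [aeval_def, eval, coe_eval₂Hom, eval₂_comp_left]
    rfl
  let χ : Q →ₐ[A] A ⧸ I := Ideal.Quotient.liftₐ _ (aeval b₀) fun f hf => by
    refine (Ideal.span_le (I := RingHom.ker (aeval b₀ : MvPolynomial (Fin n) A →ₐ[A] A ⧸ I))).2 ?_ hf
    rintro _ ⟨i, rfl⟩
    show aeval b₀ (P i) = 0
    rw [hev]
    exact Ideal.Quotient.eq_zero_iff_mem.2 (h₀ i)
  have hχ : ∀ f, χ (Ideal.Quotient.mk _ f) = aeval b₀ f := fun f => rfl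
  have hjac : IsUnit (χ P₀.jacobian) := by
    have : χ P₀.jacobian = Ideal.Quotient.mk I
        (Matrix.of fun i j => eval a₀ (pderiv j (P i))).det := by
      rw [Algebra.PreSubmersivePresentation.jacobian_eq_jacobiMatrix_det]
      show χ (Ideal.Quotient.mk _ P₀.jacobiMatrix.det) = _
      rw [hχ, AlgHom.map_det, RingHom.map_det, ← Matrix.det_transpose]
      congr 1
      ext i j
      simp only [Matrix.transpose_apply, RingHom.mapMatrix_apply, AlgHom.mapMatrix_apply,
        Matrix.map_apply, Matrix.of_apply, hev, Algebra.PreSubmersivePresentation.jacobiMatrix_apply]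
      rfl
    rw [this]
    exact hJ
  let σ : T →ₐ[A] A ⧸ I :=
    { toRingHom := IsLocalization.Away.lift (g := χ.toRingHom) P₀.jacobian hjac
      commutes' := fun a => by
        show IsLocalization.Away.lift _ _ (algebraMap A T a) = _
        rw [IsScalarTower.algebraMap_apply A Q T, IsLocalization.Away.lift_eq]
        exact χ.commutes a }
  obtain ⟨τ, hτ⟩ := exists_lift_of_etale σ
  let t : MvPolynomial (Fin n) A →ₐ[A] A :=
    τ.comp ((IsScalarTower.toAlgHom A Q T).comp (Ideal.Quotient.mkₐ A _))
  refine ⟨fun i => t (X i), fun i => ?_, fun j => ?_⟩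
  · have ht : t = aeval fun i => t (X i) := MvPolynomial.aeval_unique t
    have h1 : t (P i) = 0 := by
      show τ (algebraMap Q T (Ideal.Quotient.mk _ (P i))) = 0
      rw [Ideal.Quotient.eq_zero_iff_mem.2 (Ideal.subset_span (Set.mem_range_self i)), map_zero,
        map_zero]
    rw [ht, aeval_def, Algebra.algebraMap_self] at h1
    exact h1
  · rw [← Ideal.Quotient.eq]
    show Ideal.Quotient.mk I (τ (algebraMap Q T (Ideal.Quotient.mk _ (X j)))) = _
    refine (AlgHom.congr_fun hτ _).trans ((IsLocalization.Away.lift_eq _ hjac _).trans ?_)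
    show χ (Ideal.Quotient.mk _ (X j)) = _
    rw [hχ, aeval_X]

/-- An idempotent matrix modulo `I` lifts to an idempotent matrix. -/
theorem exists_idempotent_matrix [hI : HenselianRing A I] {n : Type*} [Fintype n] [DecidableEq n]
    (M : Matrix n n A) (hM : (M * M - M).map (Ideal.Quotient.mk I) = 0) :
    ∃ E : Matrix n n A, E * E = E ∧ E.map (Ideal.Quotient.mk I) = M.map (Ideal.Quotient.mk I) := by
  rcases subsingleton_or_nontrivial A with hA | hA
  · exact ⟨M, Subsingleton.elim _ _, rfl⟩
  set N := M * M - M with hN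
  set F : Polynomial A := N.charpoly.comp (Polynomial.X ^ 2 - Polynomial.X) with hF
  let φ : AdjoinRoot F →ₐ[A] Matrix n n A := Ideal.Quotient.liftₐ _ (Polynomial.aeval M) (by
    intro f hf
    obtain ⟨g, rfl⟩ := Ideal.mem_span_singleton'.1 hf
    rw [map_mul, hF, Polynomial.aeval_comp, map_sub, map_pow, Polynomial.aeval_X, sq, ← hN,
      Matrix.aeval_self_charpoly, mul_zero])
  have hqm : (Polynomial.X ^ 2 - Polynomial.X : Polynomial A).Monic :=
    Polynomial.monic_X_pow_sub (by rw [Polynomial.degree_X]; norm_num)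
  have hqd : (Polynomial.X ^ 2 - Polynomial.X : Polynomial A).natDegree ≠ 0 := by
    rw [Polynomial.natDegree_sub_eq_left_of_natDegree_lt] <;> simp
  have hFm : F.Monic := N.charpoly_monic.comp hqm hqd
  have := hFm.finite_adjoinRoot
  let B := AdjoinRoot F
  set JI := I.map (algebraMap A B)
  have : HenselianRing B JI := of_isIntegral B
  let r : B := AdjoinRoot.root F
  set d := Fintype.card n
  have hr : (r * r - r) ^ d ∈ JI := by
    have h1 : N.charpoly.map (Ideal.Quotient.mk I) = Polynomial.X ^ d := by
      rw [← Matrix.charpoly_map, hM, Matrix.charpoly_zero]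
    have h2 : N.charpoly - Polynomial.X ^ d ∈ I.map Polynomial.C := Ideal.mem_map_C_iff.2 fun i => by
      rw [← Ideal.Quotient.eq_zero_iff_mem, ← Polynomial.coeff_map, Polynomial.map_sub, h1,
        Polynomial.map_pow, Polynomial.map_X, sub_self, Polynomial.coeff_zero]
    have h3 := Ideal.mem_map_of_mem (Polynomial.aeval (R := A) (r * r - r)).toRingHom h2
    rw [Ideal.map_map, show (Polynomial.aeval (R := A) (r * r - r)).toRingHom.comp Polynomial.C =
      algebraMap A B from RingHom.ext fun a => Polynomial.aeval_C _ a] at h3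
    have h4 : Polynomial.aeval (r * r - r) N.charpoly = 0 := by
      have h5 : Polynomial.aeval r F = 0 := (AdjoinRoot.aeval_eq F).trans AdjoinRoot.mk_self
      simpa [F, Polynomial.aeval_comp, sq] using h5
    rw [AlgHom.toRingHom_eq_coe, RingHom.coe_coe, map_sub, h4, map_pow, Polynomial.aeval_X, zero_sub, neg_mem_iff] at h3
    exact h3
  set J' := JI ⊔ Ideal.span {r * r - r}
  have : HenselianRing B J' := of_le_radical (I := JI)
    (sup_le Ideal.le_radical ((Ideal.span_singleton_le_iff_mem _).2 ⟨d, hr⟩))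
  obtain ⟨e, he, her⟩ := exists_idempotent_of_finite (A := B) (B := B) (I := J')
    (HenselianRing.jac) gabberRoot (b := r) (by
      rw [Algebra.algebraMap_self, Ideal.map_id]
      exact Ideal.mem_sup_right (Ideal.mem_span_singleton_self _))
  rw [Algebra.algebraMap_self, Ideal.map_id] at her
  refine ⟨φ e, by rw [← map_mul, he.eq], ?_⟩
  let Φ : B →+* Matrix n n (A ⧸ I) := (Ideal.Quotient.mk I).mapMatrix.comp φ.toRingHom
  have hr' : φ r = M := Polynomial.aeval_X M
  have hker : J' ≤ RingHom.ker Φ := by
    refine sup_le (Ideal.map_le_iff_le_comap.2 fun a ha => ?_) ((Ideal.span_singleton_le_iff_mem _).2 ?_)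
    · rw [Ideal.mem_comap, RingHom.mem_ker]
      show (Ideal.Quotient.mk I).mapMatrix (φ (algebraMap A B a)) = 0
      ext i j
      rw [AlgHom.commutes, RingHom.mapMatrix_apply, Matrix.map_apply, Matrix.algebraMap_matrix_apply]
      split_ifs <;> simp [Ideal.Quotient.eq_zero_iff_mem.2 ha]
    · rw [RingHom.mem_ker]
      show (Ideal.Quotient.mk I).mapMatrix (φ (r * r - r)) = 0
      rw [map_sub, map_mul, hr']
      exact hM
  have := RingHom.mem_ker.1 (hker her)
  rw [map_sub, sub_eq_zero] at this
  calc (φ e).map (Ideal.Quotient.mk I) = Φ e := rfl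
    _ = Φ r := this
    _ = _ := by rw [← hr']; rfl

/-- Sections modulo `I` of smooth `A`-algebras lift. -/
theorem exists_lift_of_smooth [hI : HenselianRing A I] {S : Type u} [CommRing S] [Algebra A S]
    [Algebra.Smooth A S] (σ : S →ₐ[A] A ⧸ I) :
    ∃ τ : S →ₐ[A] A, (Ideal.Quotient.mkₐ A I).comp τ = σ := by
  classical
  obtain ⟨n, π, hπ, hker⟩ := (inferInstance : Algebra.FinitePresentation A S).out
  set J := RingHom.ker π.toRingHom
  obtain ⟨g, hg⟩ := (Algebra.FormallySmooth.iff_split_surjection π hπ).1 inferInstance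
  choose h hh using fun k : Fin n => Ideal.Quotient.mk_surjective (g (π (X k)))
  let j : Fin n → MvPolynomial (Fin n) A := fun k => X k - h k
  have hj : ∀ k, j k ∈ J := by
    intro k
    have h1 := AlgHom.congr_fun hg (π (X k))
    rw [AlgHom.comp_apply, ← hh] at h1
    show π (X k - h k) = 0
    rw [map_sub, sub_eq_zero]
    exact h1.symm
  -- first order expansion
  have hexp : ∀ f, π f = 0 → f - ∑ k, pderiv k f * j k ∈ J ^ 2 := by
    intro f hf
    have h1 : ∀ p : MvPolynomial (Fin n) A, aeval h p - (p - ∑ k, pderiv k p * j k) ∈ J ^ 2 := by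
      intro p
      induction p using MvPolynomial.induction_on with
      | C a => simp
      | add p q hp hq =>
        have : aeval h (p + q) - (p + q - ∑ k, pderiv k (p + q) * j k) =
            (aeval h p - (p - ∑ k, pderiv k p * j k)) + (aeval h q - (q - ∑ k, pderiv k q * j k)) := by
          simp only [map_add, add_mul, Finset.sum_add_distrib]; ring
        rw [this]
        exact add_mem hp hq
      | mul_X p i hp =>
        have hsum : ∑ k, pderiv k (p * X i) * j k = X i * ∑ k, pderiv k p * j k + p * j i := by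
          simp only [Derivation.leibniz, smul_eq_mul, pderiv_X, add_mul, Finset.sum_add_distrib,
            Finset.mul_sum]
          rw [add_comm]
          congr 1
          · exact Finset.sum_congr rfl fun k _ => by ring
          · rw [Finset.sum_eq_single i (fun k _ hk => by simp [Pi.single_eq_of_ne hk.symm])
              (by simp)]
            simp
        have : aeval h (p * X i) - (p * X i - ∑ k, pderiv k (p * X i) * j k) =
            (aeval h p - (p - ∑ k, pderiv k p * j k)) * h i
              + (∑ k, pderiv k p * j k) * j i := by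
          rw [hsum, map_mul, aeval_X, show X i = h i + j i by simp [j]]
          ring
        rw [this, sq]
        refine add_mem (Ideal.mul_mem_right _ _ (sq J ▸ hp)) (Ideal.mul_mem_mul ?_ (hj i))
        exact sum_mem fun k _ => J.mul_mem_left _ (hj k)
    have h2 : aeval h f ∈ J ^ 2 := by
      rw [← Ideal.Quotient.eq_zero_iff_mem]
      have h3 : (Ideal.Quotient.mkₐ A (J ^ 2)).comp (aeval h) = g.comp π := by
        ext k
        simp only [AlgHom.comp_apply, aeval_X]
        exact hh k
      have h4 := AlgHom.congr_fun h3 f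
      rwa [AlgHom.comp_apply, AlgHom.comp_apply, hf, map_zero] at h4
    simpa using sub_mem h2 (h1 f)
  choose a₀ ha₀ using fun k => Ideal.Quotient.mk_surjective (σ (π (X k)))
  have hev : ∀ p, Ideal.Quotient.mk I (eval a₀ p) = σ (π p) := by
    intro p
    have : (Ideal.Quotient.mkₐ A I).comp (aeval a₀) = σ.comp π := by
      ext k
      simp only [AlgHom.comp_apply, aeval_X]
      exact ha₀ k
    exact AlgHom.congr_fun this p
  have hJI : ∀ f ∈ J, eval a₀ f ∈ I := fun f hf => by
    rw [← Ideal.Quotient.eq_zero_iff_mem, hev, show π f = 0 from hf, map_zero]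
  have hd : ∀ (l : Fin n), ∀ f ∈ J ^ 2, pderiv l f ∈ J := by
    intro l f hf
    rw [sq] at hf
    refine Submodule.mul_induction_on hf (fun a ha b hb => ?_) fun a b ha hb => ?_
    · rw [Derivation.leibniz, smul_eq_mul, smul_eq_mul]
      exact add_mem (J.mul_mem_right _ ha) (J.mul_mem_right _ hb)
    · rw [map_add]; exact add_mem ha hb
  let M₀ : Matrix (Fin n) (Fin n) A := Matrix.of fun i k => eval a₀ (pderiv k (j i))
  have hM : (M₀ * M₀ - M₀).map (Ideal.Quotient.mk I) = 0 := by
    ext i l
    rw [Matrix.map_apply, Matrix.zero_apply, Ideal.Quotient.eq_zero_iff_mem]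
    have h1 := hd l _ (hexp (j i) (hj i))
    rw [map_sub, map_sum] at h1
    have h2 := neg_mem (hJI _ h1)
    simp only [Derivation.leibniz, smul_eq_mul, map_sub, map_sum, map_add, map_mul,
      Finset.sum_add_distrib, neg_sub] at h2
    have h3 : ∑ k, eval a₀ (j k) * eval a₀ (pderiv l (pderiv k (j i))) ∈ I :=
      sum_mem fun k _ => I.mul_mem_right _ (hJI _ (hj k))
    have h4 := sub_mem h2 h3
    rw [Matrix.sub_apply, Matrix.mul_apply]
    convert h4 using 1
    simp only [M₀, Matrix.of_apply]
    ring
  obtain ⟨E, hE, hEM⟩ := exists_idempotent_matrix M₀ hM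
  let G : Fin n → MvPolynomial (Fin n) A :=
    fun i => j i + ∑ k, C ((1 - E) i k) * (X k - C (a₀ k))
  obtain ⟨a, hG, ha⟩ := exists_zero_of_isUnit_jacobian n G a₀
    (fun i => by
      simp only [G, map_add, map_sum, map_mul, map_sub, eval_C, eval_X, sub_self, mul_zero,
        Finset.sum_const_zero, add_zero]
      exact hJI _ (hj i))
    (by
      have hmat : (Matrix.of fun i l => eval a₀ (pderiv l (G i))) = M₀ + (1 - E) := by
        ext i l
        simp only [G, map_add, map_sum, Matrix.of_apply, Matrix.add_apply, M₀]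
        congr 1
        rw [Finset.sum_eq_single l (fun k _ hk => by simp [pderiv_X, Pi.single_eq_of_ne hk.symm, Pi.single_eq_of_ne hk])
          (by simp)]
        simp [pderiv_X]
      rw [hmat, RingHom.map_det, RingHom.mapMatrix_apply]
      have : (M₀ + (1 - E)).map (Ideal.Quotient.mk I) = 1 := by
        rw [Matrix.map_add _ (map_add _), Matrix.map_sub _ (map_sub _), hEM,
          Matrix.map_one _ (map_zero _) (map_one _)]
        abel
      rw [this, Matrix.det_one]
      exact isUnit_one)
  set 𝔍 := J.map (eval a)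
  have h𝔍I : 𝔍 ≤ I := Ideal.map_le_iff_le_comap.2 fun f hf => by
    simpa using add_mem (eval_sub_eval_mem' f ha) (hJI f hf)
  have hjv : ∀ k, eval a (j k) ∈ 𝔍 := fun k => Ideal.mem_map_of_mem _ (hj k)
  have hsq : ∀ f ∈ J ^ 2, eval a f ∈ I * 𝔍 := fun f hf => by
    have := Ideal.mem_map_of_mem (eval a) hf
    rw [sq, Ideal.map_mul] at this
    exact Ideal.mul_mono_left h𝔍I this
  have hjI : ∀ i, eval a (j i) ∈ I * 𝔍 := by
    intro i
    set v : Fin n → A := fun k => eval a (j k)
    have hEv : Matrix.mulVec E v = 0 := by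
      have hv : v + Matrix.mulVec (1 - E) (fun k => a k - a₀ k) = 0 := by
        funext i
        have := hG i
        simpa [G, v, Matrix.mulVec, dotProduct] using this
      have h2 := congrArg (Matrix.mulVec E) hv
      rwa [Matrix.mulVec_add, Matrix.mulVec_mulVec, mul_sub, mul_one, hE, sub_self,
        Matrix.zero_mulVec, add_zero, Matrix.mulVec_zero] at h2
    have h1 := hsq _ (hexp (j i) (hj i))
    simp only [map_sub, map_sum, map_mul] at h1
    have h2 : ∑ k, (eval a (pderiv k (j i)) - E i k) * v k ∈ I * 𝔍 := by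
      refine sum_mem fun k _ => Ideal.mul_mem_mul ?_ (hjv k)
      have h3 : eval a₀ (pderiv k (j i)) - E i k ∈ I :=
        Ideal.Quotient.eq.1 (congrFun (congrFun hEM i) k).symm
      simpa using add_mem (eval_sub_eval_mem' (pderiv k (j i)) ha) h3
    have h4 := add_mem h1 h2
    have h5 : ∑ k, E i k * v k = 0 := congrFun hEv i
    simp only [sub_mul, Finset.sum_sub_distrib, h5, sub_zero] at h4
    simpa [v] using h4
  have h𝔍 : 𝔍 = ⊥ := by
    refine Submodule.eq_bot_of_le_smul_of_le_jacobson_bot I 𝔍 (hker.map _) ?_ hI.jac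
    refine Ideal.map_le_iff_le_comap.2 fun f hf => ?_
    show eval a f ∈ I * 𝔍
    have h1 := hsq _ (hexp f hf)
    simp only [map_sub, map_sum, map_mul] at h1
    have h2 : ∑ k, eval a (pderiv k f) * eval a (j k) ∈ I * 𝔍 :=
      sum_mem fun k _ => Ideal.mul_mem_left _ _ (hjI k)
    simpa using add_mem h1 h2
  let e := Ideal.quotientKerAlgEquivOfSurjective hπ
  let τ₀ := Ideal.Quotient.liftₐ (RingHom.ker π) (aeval a : MvPolynomial (Fin n) A →ₐ[A] A) (fun f hf => by
    have : eval a f ∈ 𝔍 := Ideal.mem_map_of_mem _ hf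
    rw [h𝔍] at this
    simpa using this)
  let τ : S →ₐ[A] A := τ₀.comp e.symm.toAlgHom
  refine ⟨τ, AlgHom.ext fun s => ?_⟩
  obtain ⟨p, rfl⟩ := hπ s
  have hτ : τ (π p) = eval a p := by
    show τ₀ (e.symm (π p)) = _
    rw [show e.symm (π p) = Ideal.Quotient.mk (RingHom.ker π) p from e.symm_apply_eq.2 rfl]
    rfl
  show Ideal.Quotient.mk I (τ (π p)) = σ (π p)
  rw [hτ, ← hev, Ideal.Quotient.eq]
  exact eval_sub_eval_mem' p ha

end Groth.Agent.Hensel
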