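import Groth.Agent.Hensel.Idempotent
import Mathlib.RingTheory.Idempotents
import Mathlib.RingTheory.Spectrum.Maximal.Localization
import Mathlib.RingTheory.Spectrum.Prime.Topology
import Mathlib.RingTheory.Artinian.Module
import Mathlib.RingTheory.Spectrum.Prime.Noetherian

/-!
Semilocal rings as products of local rings; finite algebras over (Henselian) local rings.
-/

namespace Groth.Agent.Hensel

open Polynomial

universe u

variable {B : Type u} [CommRing B]

theorem mem_jacobson_of_forall_maximal {x : B} (h : ∀ M : MaximalSpectrum B, x ∈ M.asIdeal) :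
    x ∈ Ideal.jacobson (⊥ : Ideal B) :=
  Ideal.mem_sInf.2 fun {M} hM => h ⟨M, hM.2⟩

/-- Idempotents separating the (finitely many) maximal ideals decompose the ring. -/
theorem exists_pi_local [Finite (MaximalSpectrum B)]
    (H : ∀ M : MaximalSpectrum B, ∃ e : B, IsIdempotentElem e ∧ e ∉ M.asIdeal ∧
      ∀ N : MaximalSpectrum B, N ≠ M → e ∈ N.asIdeal) :
    ∃ (ι : Type u) (_ : Fintype ι) (A : ι → Type u) (_ : ∀ i, CommRing (A i)),
      (∀ i, IsLocalRing (A i)) ∧ Nonempty (B ≃+* (∀ i, A i)) := by
  classical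
  have := Fintype.ofFinite (MaximalSpectrum B)
  choose e he heM heN using H
  have hz : ∀ x : B, IsIdempotentElem x → (∀ M : MaximalSpectrum B, x ∈ M.asIdeal) → x = 0 :=
    fun x hx h => idempotent_eq_of_sub_mem_jacobson hx IsIdempotentElem.zero
      (by simpa using mem_jacobson_of_forall_maximal h)
  have hort : OrthogonalIdempotents e := by
    refine ⟨he, fun M N hMN => hz _ ((he M).mul (he N)) fun P => ?_⟩
    rcases eq_or_ne P M with rfl | h
    · exact Ideal.mul_mem_left _ _ (heN N _ hMN)
    · exact Ideal.mul_mem_right _ _ (heN M _ h)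
  have hcompl : CompleteOrthogonalIdempotents e := by
    refine ⟨hort, ?_⟩
    have : 1 - ∑ M, e M = 0 := hz _ (hort.isIdempotentElem_sum).one_sub fun P => ?_
    · exact (sub_eq_zero.1 this).symm
    rw [← Finset.add_sum_erase _ _ (Finset.mem_univ P), ← sub_sub]
    refine sub_mem ?_ (sum_mem fun N hN => heN N _ (Finset.ne_of_mem_erase hN).symm)
    have : (1 - e P) * e P ∈ P.asIdeal := by
      rw [show (1 - e P) * e P = 0 by rw [sub_mul, (he P).eq]; ring]
      exact zero_mem _
    exact (P.isMaximal.isPrime.mem_or_mem this).resolve_right (heM P)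
  refine ⟨MaximalSpectrum B, inferInstance, fun M => B ⧸ Ideal.span {1 - e M}, inferInstance,
    fun M => ?_, ⟨RingEquiv.ofBijective _ hcompl.bijective_pi⟩⟩
  have hM : 1 - e M ∈ M.asIdeal := by
    have : (1 - e M) * e M ∈ M.asIdeal := by
      rw [show (1 - e M) * e M = 0 by rw [sub_mul, (he M).eq]; ring]
      exact zero_mem _
    exact (M.isMaximal.isPrime.mem_or_mem this).resolve_right (heM M)
  refine IsLocalRing.of_unique_max_ideal ⟨M.asIdeal.map (Ideal.Quotient.mk _), ?_, fun N hN => ?_⟩
  · refine (Ideal.map_eq_top_or_isMaximal_of_surjective _ Ideal.Quotient.mk_surjective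
      M.isMaximal).resolve_left fun h => M.isMaximal.ne_top ?_
    have := congrArg (Ideal.comap (Ideal.Quotient.mk (Ideal.span {1 - e M}))) h
    rw [Ideal.comap_map_of_surjective _ Ideal.Quotient.mk_surjective, Ideal.comap_top,
      ← RingHom.ker_eq_comap_bot, Ideal.mk_ker,
      sup_eq_left.2 ((Ideal.span_singleton_le_iff_mem _).2 hM)] at this
    exact this
  · have hN' := Ideal.comap_isMaximal_of_surjective (Ideal.Quotient.mk (Ideal.span {1 - e M}))
      Ideal.Quotient.mk_surjective (K := N)
    set P : MaximalSpectrum B := ⟨_, hN'⟩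
    have hmem : 1 - e M ∈ P.asIdeal := by
      show Ideal.Quotient.mk _ (1 - e M) ∈ N
      rw [Ideal.Quotient.eq_zero_iff_mem.2 (Ideal.mem_span_singleton_self _)]
      exact zero_mem _
    have : P = M := by
      by_contra h
      exact P.isMaximal.ne_top ((Ideal.eq_top_iff_one _).2 (by simpa using add_mem hmem (heN M P h)))
    have hasI : P.asIdeal = M.asIdeal := congrArg MaximalSpectrum.asIdeal this
    rw [← hasI]
    exact (Ideal.map_comap_of_surjective _ Ideal.Quotient.mk_surjective N).symm

/-- If `B ⧸ J` is Artinian, `J ⊆ jac B` and idempotents lift modulo `J`, then idempotents separate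
the finitely many maximal ideals. -/
theorem exists_separating_of_surjOn (J : Ideal B) (hJ : J ≤ Ideal.jacobson ⊥) [IsArtinianRing (B ⧸ J)]
    (H : Set.SurjOn (Ideal.Quotient.mk J) {e : B | IsIdempotentElem e} {e | IsIdempotentElem e}) :
    Finite (MaximalSpectrum B) ∧ ∀ M : MaximalSpectrum B, ∃ e : B, IsIdempotentElem e ∧
      e ∉ M.asIdeal ∧ ∀ N : MaximalSpectrum B, N ≠ M → e ∈ N.asIdeal := by
  have hle : ∀ M : MaximalSpectrum B, J ≤ M.asIdeal :=
    fun M => hJ.trans (sInf_le ⟨bot_le, M.isMaximal⟩)
  let g : MaximalSpectrum B → PrimeSpectrum (B ⧸ J) := fun M =>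
    ⟨M.asIdeal.map (Ideal.Quotient.mk J), Ideal.map_isPrime_of_surjective
      Ideal.Quotient.mk_surjective (by rw [Ideal.mk_ker]; exact hle M)
      (H := M.isMaximal.isPrime)⟩
  have hg : ∀ M, (g M).asIdeal.comap (Ideal.Quotient.mk J) = M.asIdeal := fun M => by
    rw [Ideal.comap_map_of_surjective _ Ideal.Quotient.mk_surjective, ← RingHom.ker_eq_comap_bot,
      Ideal.mk_ker, sup_eq_left.2 (hle M)]
  have hgi : Function.Injective g := fun M N h =>
    MaximalSpectrum.ext (by rw [← hg M, ← hg N, h])
  refine ⟨Finite.of_injective g hgi, fun M => ?_⟩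
  obtain ⟨e₀, he₀, hs⟩ := PrimeSpectrum.isClopen_iff.1
    (isClopen_discrete ({g M} : Set (PrimeSpectrum (B ⧸ J))))
  obtain ⟨e, he, rfl⟩ := H he₀
  have hmem : ∀ N, Ideal.Quotient.mk J e ∉ (g N).asIdeal ↔ N = M := by
    intro N
    rw [← PrimeSpectrum.mem_basicOpen, ← SetLike.mem_coe, ← hs, Set.mem_singleton_iff, hgi.eq_iff]
  refine ⟨e, he, fun h => (hmem M).2 rfl ?_, fun N hN => ?_⟩
  · rwa [← Ideal.mem_comap, hg]
  · rw [← hg N, Ideal.mem_comap]
    exact not_not.1 fun h => hN ((hmem N).1 h)

/-- If `B ⧸ J` is Artinian, `J ⊆ jac B` and idempotents lift modulo `J`, then `B` is a finite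
product of local rings. -/
theorem exists_pi_local_of_surjOn (J : Ideal B) (hJ : J ≤ Ideal.jacobson ⊥) [IsArtinianRing (B ⧸ J)]
    (H : Set.SurjOn (Ideal.Quotient.mk J) {e : B | IsIdempotentElem e} {e | IsIdempotentElem e}) :
    ∃ (ι : Type u) (_ : Fintype ι) (A : ι → Type u) (_ : ∀ i, CommRing (A i)),
      (∀ i, IsLocalRing (A i)) ∧ Nonempty (B ≃+* (∀ i, A i)) :=
  have ⟨_, h⟩ := exists_separating_of_surjOn J hJ H
  exists_pi_local h

/-- Separating idempotents make `B → ∏ B_M` bijective. -/
theorem bijective_pi_localization [Finite (MaximalSpectrum B)]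
    (H : ∀ M : MaximalSpectrum B, ∃ e : B, IsIdempotentElem e ∧ e ∉ M.asIdeal ∧
      ∀ N : MaximalSpectrum B, N ≠ M → e ∈ N.asIdeal) :
    Function.Bijective
      (RingHom.pi fun n : MaximalSpectrum B => algebraMap B (Localization.AtPrime n.asIdeal)) := by
  classical
  have := Fintype.ofFinite (MaximalSpectrum B)
  refine ⟨MaximalSpectrum.toPiLocalization_injective B, fun z => ?_⟩
  choose e he heM heN using H
  have hout : ∀ (M : MaximalSpectrum B), 1 - e M ∈ M.asIdeal := fun M => by
    have : (1 - e M) * e M ∈ M.asIdeal := by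
      rw [show (1 - e M) * e M = 0 by rw [sub_mul, (he M).eq]; ring]
      exact zero_mem _
    exact (M.isMaximal.isPrime.mem_or_mem this).resolve_right (heM M)
  have h1 : ∀ M : MaximalSpectrum B, algebraMap B (Localization.AtPrime M.asIdeal) (e M) = 1 := by
    intro M
    have hu := IsLocalization.map_units (Localization.AtPrime M.asIdeal)
      (⟨e M, heM M⟩ : M.asIdeal.primeCompl)
    refine hu.mul_right_cancel ?_
    rw [one_mul]
    show algebraMap B (Localization.AtPrime M.asIdeal) (e M) * _ = _
    rw [← map_mul, (he M).eq]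
  have h0 : ∀ M N : MaximalSpectrum B, N ≠ M →
      algebraMap B (Localization.AtPrime N.asIdeal) (e M) = 0 := by
    intro M N h
    have hu := IsLocalization.map_units (Localization.AtPrime N.asIdeal)
      (⟨1 - e M, fun hmem => N.isMaximal.ne_top ((Ideal.eq_top_iff_one _).2
        (by simpa using add_mem hmem (heN M N h)))⟩ : N.asIdeal.primeCompl)
    refine hu.mul_left_eq_zero.1 ?_
    rw [← map_mul, show e M * (1 - e M) = 0 by rw [mul_sub, (he M).eq, mul_one, sub_self], map_zero]
  have hloc : ∀ M : MaximalSpectrum B, ∃ y : B,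
      algebraMap B (Localization.AtPrime M.asIdeal) y = z M := by
    intro M
    obtain ⟨⟨b, s⟩, hbs⟩ := IsLocalization.surj M.asIdeal.primeCompl (z M)
    have hu : IsUnit ((s : B) * e M + (1 - e M)) := by
      by_contra hu
      obtain ⟨N, hN, hmem⟩ := exists_max_ideal_of_mem_nonunits hu
      rcases eq_or_ne (⟨N, hN⟩ : MaximalSpectrum B) M with h | h
      · subst h
        have := sub_mem hmem (show 1 - e ⟨N, hN⟩ ∈ N from hout ⟨N, hN⟩)
        rw [add_sub_cancel_right] at this
        exact (hN.isPrime.mem_or_mem this).elim s.2 (heM ⟨N, hN⟩)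
      · have h2 := heN M _ h
        have := sub_mem hmem (N.mul_mem_left (s : B) h2)
        rw [add_sub_cancel_left] at this
        exact hN.ne_top ((Ideal.eq_top_iff_one _).2 (by simpa using add_mem this h2))
    obtain ⟨w, hw⟩ := isUnit_iff_exists_inv.1 hu
    refine ⟨b * w, (IsLocalization.map_units (Localization.AtPrime M.asIdeal) s).mul_left_inj.1 ?_⟩
    rw [hbs, ← map_mul, show b * w * (s : B) = b * ((s : B) * w) by ring, map_mul,
      show algebraMap B (Localization.AtPrime M.asIdeal) ((s : B) * w) = 1 from ?_, mul_one]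
    have := congrArg (algebraMap B (Localization.AtPrime M.asIdeal)) hw
    simpa [h1] using this
  choose y hy using hloc
  refine ⟨∑ M, e M * y M, funext fun N => ?_⟩
  rw [RingHom.pi_apply, map_sum, Finset.sum_eq_single N (fun M _ h => by rw [map_mul, h0 M N h.symm, zero_mul])
    (by simp), map_mul, h1, one_mul, hy]

theorem bijective_pi_localization_of_finite (R : Type*) [CommRing R] [IsLocalRing R] (B : Type u)
    [CommRing B] [Algebra R B] [Module.Finite R B]
    (hsurj : Set.SurjOn (Ideal.Quotient.mk ((IsLocalRing.maximalIdeal R).map (algebraMap R B)))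
        {e : B | IsIdempotentElem e} {e | IsIdempotentElem e}) :
    Function.Bijective
      (RingHom.pi fun n : MaximalSpectrum B => algebraMap B (Localization.AtPrime n.asIdeal)) := by
  let k := R ⧸ IsLocalRing.maximalIdeal R
  let S := B ⧸ (IsLocalRing.maximalIdeal R).map (algebraMap R B)
  let _ : Field k := Ideal.Quotient.field _
  have : Module.Finite k S := Module.Finite.of_restrictScalars_finite R k S
  have : IsArtinianRing S := IsArtinianRing.of_finite k S
  obtain ⟨_, h⟩ := exists_separating_of_surjOn _ (map_le_jacobson_of_isIntegral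
    (IsLocalRing.jacobson_eq_maximalIdeal ⊥ bot_ne_top).ge) hsurj
  exact bijective_pi_localization h

/-- Idempotents of a finite product of local rings lift modulo any ideal. -/
theorem surjOn_of_pi_local {ι : Type*} {C : ι → Type*} [∀ i, CommRing (C i)]
    [∀ i, IsLocalRing (C i)] (φ : B ≃+* (∀ i, C i)) (J : Ideal B) :
    Set.SurjOn (Ideal.Quotient.mk J) {e : B | IsIdempotentElem e} {e | IsIdempotentElem e} := by
  classical
  intro z hz
  obtain ⟨x, rfl⟩ := Ideal.Quotient.mk_surjective z
  have hx : x * x - x ∈ J := Ideal.Quotient.eq.1 (by rw [map_mul]; exact hz)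
  let e : ∀ i, C i := fun i => if IsUnit (φ x i) then 1 else 0
  have hw : ∀ i, ∃ w : C i, e i - φ x i = (φ x i * φ x i - φ x i) * w := by
    intro i
    by_cases h : IsUnit (φ x i)
    · obtain ⟨w, hw⟩ := isUnit_iff_exists_inv.1 h
      exact ⟨-w, by simp only [e, if_pos h]; linear_combination (φ x i - 1) * hw⟩
    · obtain ⟨w, hw⟩ := isUnit_iff_exists_inv.1
        (IsLocalRing.isUnit_one_sub_self_of_mem_nonunits _ h)
      exact ⟨w, by simp only [e, if_neg h]; linear_combination (φ x i) * hw⟩
  choose w hw using hw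
  refine ⟨φ.symm e, ?_, ?_⟩
  · show _ * _ = _
    rw [← map_mul]
    congr 1
    funext i
    simp only [Pi.mul_apply, e]
    split_ifs <;> simp
  · refine Ideal.Quotient.eq.2 ?_
    have : φ.symm e - x = (x * x - x) * φ.symm w := by
      apply φ.injective
      funext i
      simpa using hw i
    rw [this]
    exact J.mul_mem_right _ hx

section local_base

variable (R : Type*) [CommRing R] [IsLocalRing R] (B : Type u) [CommRing B] [Algebra R B]
  [Module.Finite R B]

theorem isArtinianRing_quotient_maximalIdeal :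
    IsArtinianRing (B ⧸ (IsLocalRing.maximalIdeal R).map (algebraMap R B)) := by
  let k := R ⧸ IsLocalRing.maximalIdeal R
  let S := B ⧸ (IsLocalRing.maximalIdeal R).map (algebraMap R B)
  let _ : Field k := Ideal.Quotient.field _
  have : Module.Finite R S := inferInstance
  have : Module.Finite k S := Module.Finite.of_restrictScalars_finite R k S
  exact IsArtinianRing.of_finite k S

theorem exists_pi_local_iff_surjOn :
    (∃ (ι : Type u) (_ : Fintype ι) (C : ι → Type u) (_ : ∀ j, CommRing (C j)),
        (∀ j, IsLocalRing (C j)) ∧ Nonempty (B ≃+* (∀ j, C j))) ↔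
      Set.SurjOn (Ideal.Quotient.mk ((IsLocalRing.maximalIdeal R).map (algebraMap R B)))
        {e : B | IsIdempotentElem e} {e | IsIdempotentElem e} := by
  refine ⟨fun ⟨ι, _, C, _, hC, ⟨φ⟩⟩ => surjOn_of_pi_local φ _, fun h => ?_⟩
  have := isArtinianRing_quotient_maximalIdeal R B
  exact exists_pi_local_of_surjOn _ (map_le_jacobson_of_isIntegral
    (IsLocalRing.jacobson_eq_maximalIdeal ⊥ bot_ne_top).ge) h

theorem exists_pi_local_of_henselian (R : Type*) [CommRing R] [HenselianLocalRing R] (B : Type u)
    [CommRing B] [Algebra R B] [Module.Finite R B] :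
    ∃ (ι : Type u) (_ : Fintype ι) (C : ι → Type u) (_ : ∀ j, CommRing (C j)),
        (∀ j, IsLocalRing (C j)) ∧ Nonempty (B ≃+* (∀ j, C j)) :=
  (exists_pi_local_iff_surjOn R B).2 (surjOn_idempotent B)

end local_base

theorem henselianLocalRing_of_pi_local (R : Type u) [CommRing R] [IsLocalRing R]
    (h : ∀ F : R[X], F.Monic →
      ∃ (ι : Type u) (_ : Fintype ι) (A : ι → Type u) (_ : ∀ i, CommRing (A i)),
        (∀ i, IsLocalRing (A i)) ∧ Nonempty (AdjoinRoot F ≃+* (∀ i, A i))) :
    HenselianLocalRing R :=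
  henselianRing_maximalIdeal_iff.1 <|
    of_surjOn_idempotent (IsLocalRing.jacobson_eq_maximalIdeal ⊥ bot_ne_top).ge fun F hF => by
      obtain ⟨ι, _, C, _, hC, ⟨φ⟩⟩ := h F hF
      exact surjOn_of_pi_local φ _

end Groth.Agent.Hensel
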