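import Groth.Agent.Hensel.Local
import Mathlib.RingTheory.ZariskisMainTheorem
import Mathlib.RingTheory.LocalRing.ResidueField.Fiber
import Mathlib.RingTheory.Spectrum.Prime.Noetherian

/-!
Quasi-finite algebras over Henselian local rings.
-/

namespace Groth.Agent.Hensel

open IsLocalRing

universe u

variable {R : Type u} [CommRing R] {S : Type u} [CommRing S] [Algebra R S]

variable (R) in
/-- An idempotent whose factor is module finite. -/
def FinIdem (e : S) : Prop :=
  IsIdempotentElem e ∧ ((Ideal.span {e}).restrictScalars R).FG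

theorem FinIdem.zero : FinIdem R (0 : S) := by
  refine ⟨IsIdempotentElem.zero, ?_⟩
  rw [Ideal.span_singleton_eq_bot.2 rfl, Submodule.restrictScalars_bot]
  exact Submodule.fg_bot

theorem FinIdem.sup {e f : S} (he : FinIdem R e) (hf : FinIdem R f) :
    FinIdem R (e + f - e * f) := by
  refine ⟨he.1.add_sub_mul hf.1, ?_⟩
  have h : (Ideal.span {e + f - e * f}).restrictScalars R =
      (Ideal.span {e}).restrictScalars R ⊔ (Ideal.span {f}).restrictScalars R := by
    rw [← Submodule.restrictScalars_sup]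
    congr 1
    refine le_antisymm ?_ (sup_le ?_ ?_)
    · rw [Ideal.span_singleton_le_iff_mem]
      exact Submodule.mem_sup.2 ⟨e * (1 - f), Ideal.mem_span_singleton'.2 ⟨1 - f, mul_comm _ _⟩, f,
        Ideal.mem_span_singleton_self f, by ring⟩
    · rw [Ideal.span_singleton_le_iff_mem, Ideal.mem_span_singleton']
      exact ⟨e, by linear_combination (1 - f) * he.1.eq⟩
    · rw [Ideal.span_singleton_le_iff_mem, Ideal.mem_span_singleton']
      exact ⟨f, by linear_combination (1 - e) * hf.1.eq⟩
  rw [h]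
  exact Submodule.FG.sup he.2 hf.2

theorem FinIdem.module_finite {e : S} (he : FinIdem R e) :
    Module.Finite R (S ⧸ Ideal.span ({1 - e} : Set S)) := by
  refine ⟨?_⟩
  have : (⊤ : Submodule R (S ⧸ Ideal.span ({1 - e} : Set S))) =
      ((Ideal.span {e}).restrictScalars R).map
        (Ideal.Quotient.mkₐ R (Ideal.span ({1 - e} : Set S))).toLinearMap := by
    refine (Submodule.eq_top_iff'.2 fun x => ?_).symm
    obtain ⟨x, rfl⟩ := Ideal.Quotient.mk_surjective x
    refine ⟨x * e, Ideal.mem_span_singleton'.2 ⟨x, rfl⟩, ?_⟩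
    show Ideal.Quotient.mk _ (x * e) = Ideal.Quotient.mk _ x
    rw [Ideal.Quotient.eq, Ideal.mem_span_singleton']
    exact ⟨-x, by ring⟩
  rw [this]
  exact he.2.map _

/-- Quasi-finiteness is unchanged on the factor cut out by an idempotent. -/
theorem quasiFiniteAt_of_quotient {e : S} (he : IsIdempotentElem e)
    (q : Ideal (S ⧸ Ideal.span ({e} : Set S))) [q.IsPrime] [Algebra.QuasiFiniteAt R q] :
    Algebra.QuasiFiniteAt R (q.comap (Ideal.Quotient.mk (Ideal.span ({e} : Set S)))) := by
  let mk := Ideal.Quotient.mkₐ R (Ideal.span ({e} : Set S))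
  let P := q.comap mk.toRingHom
  let φ : Localization.AtPrime P →ₐ[R] Localization.AtPrime q :=
    ⟨Localization.localRingHom P q mk.toRingHom rfl, fun a => by
      show Localization.localRingHom P q mk.toRingHom rfl (algebraMap R _ a) = _
      rw [IsScalarTower.algebraMap_apply R S (Localization.AtPrime P), Localization.localRingHom_to_map]
      show algebraMap _ _ (mk (algebraMap R S a)) = _
      rw [mk.commutes, ← IsScalarTower.algebraMap_apply]⟩
  have hsurj : Function.Surjective φ := fun z => by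
    obtain ⟨a, s, rfl⟩ := IsLocalization.exists_mk'_eq q.primeCompl z
    obtain ⟨a, rfl⟩ := Ideal.Quotient.mk_surjective a
    obtain ⟨t, ht⟩ := Ideal.Quotient.mk_surjective (I := Ideal.span ({e} : Set S)) s.1
    have htP : t ∈ P.primeCompl := fun h => s.2 (by rw [← ht]; exact h)
    refine ⟨IsLocalization.mk' _ a (⟨t, htP⟩ : P.primeCompl), ?_⟩
    show Localization.localRingHom P q mk.toRingHom rfl _ = _
    rw [Localization.localRingHom_mk']
    congr 1
    exact Subtype.ext ht
  have he1 : (1 - e) ∈ P.primeCompl := fun h => by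
    have h1 : e ∈ P := by
      show mk e ∈ q
      rw [show mk e = 0 from Ideal.Quotient.eq_zero_iff_mem.2 (Ideal.mem_span_singleton_self _)]
      exact zero_mem _
    have := add_mem h h1
    rw [sub_add_cancel] at this
    exact Ideal.IsPrime.ne_top inferInstance ((Ideal.eq_top_iff_one P).2 this)
  have hinj : Function.Injective φ := by
    rw [injective_iff_map_eq_zero]
    intro z hz
    obtain ⟨a, s, rfl⟩ := IsLocalization.exists_mk'_eq P.primeCompl z
    have hz' : Localization.localRingHom P q mk.toRingHom rfl (IsLocalization.mk' _ a s) = 0 := hz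
    rw [Localization.localRingHom_mk', IsLocalization.mk'_eq_zero_iff] at hz'
    obtain ⟨m, hm⟩ := hz'
    obtain ⟨t, ht⟩ := Ideal.Quotient.mk_surjective (I := Ideal.span ({e} : Set S)) m.1
    have htP : t ∈ P.primeCompl := fun h => m.2 (by rw [← ht]; exact h)
    rw [← ht] at hm
    obtain ⟨c, hc⟩ := Ideal.mem_span_singleton'.1
      (Ideal.Quotient.eq_zero_iff_mem.1 (show Ideal.Quotient.mk (Ideal.span ({e} : Set S)) (t * a) = 0
        by rw [map_mul]; exact hm))
    rw [IsLocalization.mk'_eq_zero_iff]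
    refine ⟨⟨(1 - e) * t, P.primeCompl.mul_mem he1 htP⟩, ?_⟩
    show (1 - e) * t * a = 0
    linear_combination (-(1 - e)) * hc - c * he.eq
  exact (Algebra.QuasiFinite.iff_of_algEquiv (AlgEquiv.ofBijective φ ⟨hinj, hsurj⟩)).2 inferInstance

variable [Algebra.FiniteType R S]

theorem finite_quasiFiniteAt_over (m : Ideal R) [m.IsPrime] :
    {q : PrimeSpectrum S | q.asIdeal.comap (algebraMap R S) = m ∧
      Algebra.QuasiFiniteAt R q.asIdeal}.Finite := by
  let p : PrimeSpectrum R := ⟨m, inferInstance⟩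
  let Z := PrimeSpectrum.comap (algebraMap R S) ⁻¹' {p}
  have : IsNoetherianRing (p.asIdeal.Fiber S) :=
    Algebra.FiniteType.isNoetherianRing p.asIdeal.ResidueField _
  let φ := PrimeSpectrum.preimageHomeomorphFiber R S p
  have : TopologicalSpace.NoetherianSpace Z :=
    φ.isInducing.noetherianSpace
  let T : Set Z := {q | Algebra.QuasiFiniteAt R q.1.asIdeal}
  have hT : T.Finite := by
    have : IsCompact T := TopologicalSpace.NoetherianSpace.isCompact T
    refine this.finite ?_
    refine ⟨discreteTopology_iff_isOpen_singleton.2 fun q => ?_⟩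
    obtain ⟨⟨a, ha⟩, hq⟩ := q
    have h' := (Algebra.quasiFiniteAt_iff_isOpen_singleton_fiber (R := R) a).1 hq
    have hpa : PrimeSpectrum.comap (algebraMap R S) a = p := ha
    let g : T → ↥(PrimeSpectrum.comap (algebraMap R S) ⁻¹' {PrimeSpectrum.comap (algebraMap R S) a}) :=
      fun w => ⟨w.1.1, w.1.2.trans hpa.symm⟩
    have hg : Continuous g := (continuous_subtype_val.comp continuous_subtype_val).subtype_mk _
    convert h'.preimage hg using 1
    ext w
    simp [g, Subtype.ext_iff]
  refine (hT.image Subtype.val).subset ?_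
  rintro q ⟨hq, hqf⟩
  exact ⟨⟨q, PrimeSpectrum.ext hq⟩, hqf, rfl⟩

theorem exists_finIdem [HenselianLocalRing R] (q : Ideal S) [q.IsPrime]
    (hq : q.comap (algebraMap R S) = maximalIdeal R) [Algebra.QuasiFiniteAt R q] :
    ∃ e : S, FinIdem R e ∧ e ∉ q ∧ ∀ s ∉ q, ∃ a, e * s * a = e := by
  obtain ⟨S', hfg, r, hrq, hbij⟩ :=
    Algebra.QuasiFiniteAt.exists_fg_and_exists_notMem_and_awayMap_bijective (R := R) q
  have : Module.Finite R S' := ⟨(Submodule.fg_top _).mpr hfg⟩
  haveI : HenselianRing R (maximalIdeal R) := henselianRing_maximalIdeal_iff.2 inferInstance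
  let q' : Ideal S' := q.comap S'.val.toRingHom
  have : q'.IsPrime := Ideal.comap_isPrime _ _
  have hq'c : q'.comap (algebraMap R S') = maximalIdeal R := hq
  have hq'max : q'.IsMaximal :=
    Ideal.isMaximal_of_isIntegral_of_isMaximal_comap (R := R) q' (hq'c ▸ maximalIdeal.isMaximal R)
  have : IsArtinianRing (↥S' ⧸ (maximalIdeal R).map (algebraMap R S')) :=
    isArtinianRing_quotient_maximalIdeal R S'
  obtain ⟨_, hsep⟩ := exists_separating_of_surjOn ((maximalIdeal R).map (algebraMap R S'))
    (map_le_jacobson_of_isIntegral (jacobson_eq_maximalIdeal ⊥ bot_ne_top).ge)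
    (surjOn_idempotent S')
  obtain ⟨e, he, heq, heN⟩ := hsep ⟨q', hq'max⟩
  have hinv : ∀ t : S', t ∉ q' → ∃ a, e * t * a = e := by
    intro t ht
    have htop : Ideal.span {t, 1 - e} = ⊤ := by
      by_contra hne
      obtain ⟨N, hN, hle⟩ := Ideal.exists_le_maximal _ hne
      by_cases hNq : (⟨N, hN⟩ : MaximalSpectrum S') = ⟨q', hq'max⟩
      · have hNq' : N = q' := congrArg MaximalSpectrum.asIdeal hNq
        exact ht (hNq' ▸ hle (Ideal.subset_span (Or.inl rfl)))
      · have h1 : (1 - e) ∈ N := hle (Ideal.subset_span (Or.inr rfl))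
        have h2 : e ∈ N := heN ⟨N, hN⟩ hNq
        exact hN.ne_top ((Ideal.eq_top_iff_one N).2 (by simpa using add_mem h1 h2))
    obtain ⟨a, b, hab⟩ := Ideal.mem_span_pair.1 ((Ideal.eq_top_iff_one _).1 htop)
    exact ⟨a, by linear_combination e * hab + b * he.eq⟩
  obtain ⟨ρ, hρ⟩ := hinv r hrq
  have hρ' : (e : S) * r * ρ = e := congrArg Subtype.val hρ
  have hρn : ∀ n : ℕ, (e : S) * (r * ρ : S) ^ n = e := fun n => by
    induction n with
    | zero => simp
    | succ n ih => rw [pow_succ, ← mul_assoc, ih, ← mul_assoc, hρ']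
  have hkey : ∀ x : S, ∃ y : S', (e : S) * x = e * y := by
    intro x
    obtain ⟨z, hz⟩ := hbij.2 (algebraMap S (Localization.Away (S'.val.toRingHom r)) x)
    obtain ⟨y, ⟨_, k, rfl⟩, rfl⟩ := IsLocalization.exists_mk'_eq (Submonoid.powers r) z
    rw [Localization.awayMap, IsLocalization.Away.map, IsLocalization.map_mk',
      IsLocalization.mk'_eq_iff_eq_mul, ← map_mul,
      IsLocalization.eq_iff_exists (Submonoid.powers (S'.val.toRingHom r))] at hz
    obtain ⟨⟨_, N, rfl⟩, hN⟩ := hz
    replace hN : (r : S) ^ N * (y : S) = (r : S) ^ N * (x * ((r ^ k : S') : S)) := hN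
    rw [SubmonoidClass.coe_pow] at hN
    refine ⟨ρ ^ (N + k) * r ^ N * y, ?_⟩
    push_cast
    conv_lhs => rw [← hρn (N + k)]
    rw [show (e : S) * ((ρ : S) ^ (N + k) * (r : S) ^ N * (y : S)) =
      (e : S) * (ρ : S) ^ (N + k) * ((r : S) ^ N * (y : S)) by ring, hN]
    ring
  refine ⟨(e : S), ⟨he.map S'.val, ?_⟩, heq, fun s hs => ?_⟩
  · have : (Ideal.span {(e : S)}).restrictScalars R =
        S'.toSubmodule.map (LinearMap.mulLeft R (e : S)) := by
      ext x
      rw [Submodule.restrictScalars_mem, Ideal.mem_span_singleton', Submodule.mem_map]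
      refine ⟨?_, ?_⟩
      · rintro ⟨a, rfl⟩
        obtain ⟨y, hy⟩ := hkey a
        exact ⟨y, y.2, hy.symm.trans (mul_comm _ _)⟩
      · rintro ⟨y, -, rfl⟩
        exact ⟨y, mul_comm _ _⟩
    rw [this]
    exact hfg.map _
  · obtain ⟨t, ht⟩ := hkey s
    have htq : t ∉ q' := fun h => hs <| by
      have hes : (e : S) * s ∈ q := ht ▸ q.mul_mem_left _ h
      exact (Ideal.IsPrime.mem_or_mem inferInstance hes).resolve_left heq
    obtain ⟨a, ha⟩ := hinv t htq
    exact ⟨a, by rw [ht]; exact congrArg Subtype.val ha⟩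

theorem finite_localization [HenselianLocalRing R] (q : Ideal S) [q.IsPrime]
    (hq : q.comap (algebraMap R S) = maximalIdeal R) [Algebra.QuasiFiniteAt R q] :
    Module.Finite R (Localization.AtPrime q) := by
  obtain ⟨e, ⟨he, hfg⟩, heq, hinv⟩ := exists_finIdem q hq
  refine ⟨?_⟩
  have : (⊤ : Submodule R (Localization.AtPrime q)) = ((Ideal.span {e}).restrictScalars R).map
      (IsScalarTower.toAlgHom R S (Localization.AtPrime q)).toLinearMap := by
    refine (Submodule.eq_top_iff'.2 fun z => ?_).symm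
    obtain ⟨x, s, rfl⟩ := IsLocalization.exists_mk'_eq q.primeCompl z
    obtain ⟨a, ha⟩ := hinv s s.2
    refine ⟨x * a * e, Ideal.mem_span_singleton'.2 ⟨x * a, rfl⟩, ?_⟩
    show algebraMap S _ (x * a * e) = _
    rw [IsLocalization.eq_mk'_iff_mul_eq, ← map_mul,
      IsLocalization.eq_iff_exists q.primeCompl]
    exact ⟨⟨e, heq⟩, by linear_combination (e * x) * ha + x * he.eq⟩
  rw [this]
  exact hfg.map _

theorem exists_finIdem_all [HenselianLocalRing R] :
    ∃ e : S, FinIdem R e ∧ ∀ (q : Ideal S) [q.IsPrime],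
      q.comap (algebraMap R S) = maximalIdeal R → Algebra.QuasiFiniteAt R q → e ∉ q := by
  have hfin := finite_quasiFiniteAt_over (S := S) (maximalIdeal R)
  suffices h : ∀ T : Set (PrimeSpectrum S), T.Finite → (∀ q ∈ T,
      q.asIdeal.comap (algebraMap R S) = maximalIdeal R ∧ Algebra.QuasiFiniteAt R q.asIdeal) →
      ∃ e : S, FinIdem R e ∧ ∀ q ∈ T, e ∉ q.asIdeal by
    obtain ⟨e, he, h⟩ := h _ hfin fun q hq => hq
    exact ⟨e, he, fun q _ h1 h2 => h ⟨q, inferInstance⟩ ⟨h1, h2⟩⟩
  intro T hT
  induction T, hT using Set.Finite.induction_on with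
  | empty => exact fun _ => ⟨0, FinIdem.zero, fun _ h => h.elim⟩
  | @insert q T _ _ ih =>
    intro hT
    obtain ⟨f, hf, hfT⟩ := ih fun q' h => hT q' (Set.mem_insert_of_mem _ h)
    obtain ⟨hq, hqf⟩ := hT q (Set.mem_insert _ _)
    obtain ⟨e, he, heq, -⟩ := exists_finIdem q.asIdeal hq
    refine ⟨e + f - e * f, he.sup hf, fun q' hq' h => ?_⟩
    have hel : e ∈ q'.asIdeal := by
      have := q'.asIdeal.mul_mem_left e h
      rwa [show e * (e + f - e * f) = e by linear_combination (1 - f) * he.1.eq] at this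
    have hfl : f ∈ q'.asIdeal := by
      have := q'.asIdeal.mul_mem_left f h
      rwa [show f * (e + f - e * f) = f by linear_combination (1 - e) * hf.1.eq] at this
    rcases hq' with rfl | hq'
    · exact heq hel
    · exact hfT q' hq' hfl

theorem exists_idempotent_split [HenselianLocalRing R] :
    ∃ e : S, IsIdempotentElem e ∧ Module.Finite R (S ⧸ Ideal.span ({1 - e} : Set S)) ∧
      ∀ (q : Ideal (S ⧸ Ideal.span ({e} : Set S))) [q.IsPrime],
        q.LiesOver (maximalIdeal R) → ¬ Algebra.QuasiFiniteAt R q := by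
  obtain ⟨e, he, h⟩ := exists_finIdem_all (R := R) (S := S)
  refine ⟨e, he.1, he.module_finite, fun q _ hq hqf => ?_⟩
  refine h (q.comap (Ideal.Quotient.mk _)) ?_ (quasiFiniteAt_of_quotient he.1 q) ?_
  · rw [hq.over]; rfl
  · show Ideal.Quotient.mk _ e ∈ q
    rw [Ideal.Quotient.eq_zero_iff_mem.2 (Ideal.mem_span_singleton_self _)]
    exact zero_mem _

omit [Algebra.FiniteType R S] in
theorem henselianLocalRing_of_finite_localization [IsLocalRing R]
    (h : ∀ F : Polynomial R, F.Monic → ∀ (M : Ideal (AdjoinRoot F)) [M.IsMaximal],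
      Module.Finite R (Localization.AtPrime M)) :
    HenselianLocalRing R := by
  refine henselianLocalRing_of_pi_local R fun F hF => ?_
  have := hF.finite_adjoinRoot
  let B := AdjoinRoot F
  have := isArtinianRing_quotient_maximalIdeal R B
  have hJ : (maximalIdeal R).map (algebraMap R B) ≤ Ideal.jacobson ⊥ :=
    map_le_jacobson_of_isIntegral (jacobson_eq_maximalIdeal ⊥ bot_ne_top).ge
  have hfinM : Finite (MaximalSpectrum B) := by
    refine Finite.of_injective (β := MaximalSpectrum (B ⧸ (maximalIdeal R).map (algebraMap R B)))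
      (fun M => ⟨M.asIdeal.map (Ideal.Quotient.mk _),
        Ideal.IsMaximal.map_of_surjective_of_ker_le (hf := Ideal.Quotient.mk_surjective) ?_⟩) ?_
    · rw [Ideal.mk_ker]
      exact hJ.trans (sInf_le ⟨bot_le, M.isMaximal⟩)
    · intro M N hMN
      have h1 := congrArg (fun P => P.asIdeal.comap (Ideal.Quotient.mk
        ((maximalIdeal R).map (algebraMap R B)))) hMN
      simp only [Ideal.comap_map_of_surjective _ Ideal.Quotient.mk_surjective,
        ← RingHom.ker_eq_comap_bot, Ideal.mk_ker] at h1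
      rw [sup_eq_left.2 (hJ.trans (sInf_le ⟨bot_le, M.isMaximal⟩)),
        sup_eq_left.2 (hJ.trans (sInf_le ⟨bot_le, N.isMaximal⟩))] at h1
      exact MaximalSpectrum.ext h1
  have hsurj : ∀ M : MaximalSpectrum B,
      Function.Surjective (algebraMap B (Localization.AtPrime M.asIdeal)) := by
    intro M
    let L := Localization.AtPrime M.asIdeal
    have : Module.Finite R L := h F hF M.asIdeal
    let φ : B →ₗ[R] L := (IsScalarTower.toAlgHom R B L).toLinearMap
    suffices LinearMap.range φ = ⊤ from LinearMap.range_eq_top.1 this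
    rw [eq_top_iff]
    refine Submodule.le_of_le_smul_of_le_jacobson_bot Module.Finite.fg_top
      (jacobson_eq_maximalIdeal ⊥ bot_ne_top).ge fun z _ => ?_
    obtain ⟨x, s, rfl⟩ := IsLocalization.exists_mk'_eq M.asIdeal.primeCompl z
    let J := (maximalIdeal R).map (algebraMap R B)
    have hJM : J ≤ M.asIdeal := hJ.trans (sInf_le ⟨bot_le, M.isMaximal⟩)
    let Mb : Ideal (B ⧸ J) := M.asIdeal.map (Ideal.Quotient.mk J)
    have hMb : Mb.IsPrime := Ideal.map_isPrime_of_surjective Ideal.Quotient.mk_surjective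
      (by rwa [Ideal.mk_ker])
    have hs : Ideal.Quotient.mk J s.1 ∈ Mb.primeCompl := fun hmem => s.2 (by
      have : s.1 ∈ Mb.comap (Ideal.Quotient.mk J) := hmem
      rwa [Ideal.comap_map_of_surjective _ Ideal.Quotient.mk_surjective,
        ← RingHom.ker_eq_comap_bot, Ideal.mk_ker, sup_eq_left.2 hJM] at this)
    obtain ⟨y, hy⟩ := IsArtinianRing.localization_surjective Mb.primeCompl
      (Localization.AtPrime Mb)
      (IsLocalization.mk' _ (Ideal.Quotient.mk J x) ⟨_, hs⟩)
    obtain ⟨y, rfl⟩ := Ideal.Quotient.mk_surjective y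
    rw [IsLocalization.eq_mk'_iff_mul_eq, ← map_mul, IsLocalization.eq_iff_exists Mb.primeCompl] at hy
    obtain ⟨⟨m, hm⟩, hy⟩ := hy
    obtain ⟨m, rfl⟩ := Ideal.Quotient.mk_surjective m
    rw [← map_mul, ← map_mul, ← map_mul, Ideal.Quotient.eq] at hy
    have hmM : m ∈ M.asIdeal.primeCompl := fun hmem => hm (Ideal.mem_map_of_mem _ hmem)
    refine Submodule.mem_sup.2 ⟨φ y, LinearMap.mem_range_self φ y,
      IsLocalization.mk' L x s - φ y, ?_, add_sub_cancel _ _⟩
    rw [Ideal.smul_top_eq_map, Submodule.restrictScalars_mem,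
      IsScalarTower.algebraMap_eq R B L, ← Ideal.map_map]
    have : IsLocalization.mk' L x s - φ y =
        IsLocalization.mk' L (-(m * (y * s.1) - m * x)) (s * ⟨m, hmM⟩) := by
      rw [IsLocalization.eq_mk'_iff_mul_eq, sub_mul, Submonoid.coe_mul, map_mul, ← mul_assoc,
        IsLocalization.mk'_spec]
      show _ - algebraMap B L y * _ = _
      simp only [map_neg, map_sub, map_mul]
      ring
    rw [this, IsLocalization.mk'_mem_map_algebraMap_iff M.asIdeal.primeCompl]
    exact ⟨1, one_mem _, by rw [one_mul]; exact neg_mem hy⟩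
  let K : MaximalSpectrum B → Ideal B := fun M =>
    RingHom.ker (algebraMap B (Localization.AtPrime M.asIdeal))
  have hK : ∀ M (N : Ideal B), N.IsMaximal → K M ≤ N → N = M.asIdeal := by
    intro M N hN hle
    by_contra hne
    obtain ⟨t, htN, htM⟩ : ∃ t ∈ N, t ∉ M.asIdeal := by
      by_contra hc; push Not at hc
      exact hne (hN.eq_of_le M.isMaximal.ne_top hc)
    obtain ⟨w, hw⟩ := hsurj M (IsLocalization.mk' _ 1 (⟨t, htM⟩ : M.asIdeal.primeCompl))
    have h1 : w * t - 1 ∈ K M := by
      rw [RingHom.mem_ker, map_sub, map_mul, hw, IsLocalization.mk'_spec, sub_self]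
    refine hN.ne_top ((Ideal.eq_top_iff_one N).2 ?_)
    have := sub_mem (N.mul_mem_left w htN) (hle h1)
    simpa using this
  have hcop : Pairwise fun M N => IsCoprime (K M) (K N) := by
    intro M N hMN
    rw [Ideal.isCoprime_iff_sup_eq]
    by_contra hne
    obtain ⟨P, hP, hle⟩ := Ideal.exists_le_maximal _ hne
    exact hMN (MaximalSpectrum.ext ((hK M P hP (le_sup_left.trans hle)).symm.trans
      (hK N P hP (le_sup_right.trans hle))))
  have hinf : ⨅ M, K M = ⊥ := by
    rw [eq_bot_iff]
    intro x hx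
    refine MaximalSpectrum.toPiLocalization_injective B (funext fun M => ?_)
    have hxM : x ∈ K M := (Submodule.mem_iInf _).1 hx M
    rw [map_zero]
    exact hxM
  have := Fintype.ofFinite (MaximalSpectrum B)
  refine ⟨MaximalSpectrum B, inferInstance, fun M => B ⧸ K M, inferInstance, fun M => ?_,
    ⟨(RingEquiv.quotientBot B).symm.trans ((Ideal.quotEquivOfEq hinf.symm).trans
      (Ideal.quotientInfRingEquivPiQuotient K hcop))⟩⟩
  exact (RingHom.quotientKerEquivOfSurjective (hsurj M)).symm.isLocalRing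

omit [Algebra.FiniteType R S] in
/-- Condition (11) on finite type algebras implies henselian. -/
theorem henselianLocalRing_of_split [IsLocalRing R]
    (h : ∀ (S : Type u) [CommRing S] [Algebra R S] [Algebra.FiniteType R S],
      ∃ e : S, IsIdempotentElem e ∧ Module.Finite R (S ⧸ Ideal.span ({1 - e} : Set S)) ∧
        ∀ (q : Ideal (S ⧸ Ideal.span ({e} : Set S))) [q.IsPrime],
          q.LiesOver (maximalIdeal R) → ¬ Algebra.QuasiFiniteAt R q) :
    HenselianLocalRing R := by
  refine henselianLocalRing_of_finite_localization fun F hF M hM => ?_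
  have := hF.finite_adjoinRoot
  let B := AdjoinRoot F
  have hMm : M.comap (algebraMap R B) = maximalIdeal R :=
    eq_maximalIdeal (Ideal.isMaximal_comap_of_isIntegral_of_isMaximal M)
  have hlo : M.LiesOver (maximalIdeal R) := ⟨hMm.symm⟩
  obtain ⟨s, hsM, hs⟩ := Ideal.exists_not_mem_forall_mem_of_ne_of_liesOver (maximalIdeal R) M
  let T := Localization.Away s
  have hdisj : Disjoint (Submonoid.powers s : Set B) M := by
    rw [Set.disjoint_left]
    rintro _ ⟨n, rfl⟩ hmem
    exact hsM (Ideal.IsPrime.mem_of_pow_mem inferInstance n hmem)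
  let MT := M.map (algebraMap B T)
  have hMT : MT.IsPrime := IsLocalization.isPrime_of_isPrime_disjoint (Submonoid.powers s) T M inferInstance hdisj
  have hMTc : MT.comap (algebraMap B T) = M :=
    IsLocalization.comap_map_of_isPrime_disjoint (Submonoid.powers s) T inferInstance hdisj
  have : Algebra.FiniteType R T := Algebra.FiniteType.trans (S := B) inferInstance inferInstance
  have : Algebra.QuasiFinite R T := Algebra.QuasiFinite.trans R B T
  obtain ⟨e, he, hfin, hnq⟩ := h T
  have heM : e ∉ MT := by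
    intro hem
    have hker : RingHom.ker (Ideal.Quotient.mk (Ideal.span ({e} : Set T))) ≤ MT := by
      rw [Ideal.mk_ker, Ideal.span_singleton_le_iff_mem]; exact hem
    let qb := MT.map (Ideal.Quotient.mk (Ideal.span ({e} : Set T)))
    have hqb : qb.IsPrime := Ideal.map_isPrime_of_surjective Ideal.Quotient.mk_surjective hker
    refine hnq qb ⟨?_⟩ inferInstance
    show maximalIdeal R = qb.comap (algebraMap R (T ⧸ Ideal.span ({e} : Set T)))
    rw [IsScalarTower.algebraMap_eq R T (T ⧸ Ideal.span ({e} : Set T)), ← Ideal.comap_comap,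
      Ideal.Quotient.algebraMap_eq, Ideal.comap_map_of_surjective _ Ideal.Quotient.mk_surjective,
      ← RingHom.ker_eq_comap_bot, sup_eq_left.2 hker, IsScalarTower.algebraMap_eq R B T,
      ← Ideal.comap_comap, hMTc, hMm]
  let C := T ⧸ Ideal.span ({1 - e} : Set T)
  let ψ : B →ₐ[R] C := (Ideal.Quotient.mkₐ R _).comp (IsScalarTower.toAlgHom R B T)
  have hu : ∀ t : B, t ∉ M → IsUnit (ψ t) := by
    intro t ht
    by_contra hnu
    obtain ⟨N, hN, htN⟩ := exists_max_ideal_of_mem_nonunits hnu
    have hNc : N.comap (algebraMap R C) = maximalIdeal R :=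
      eq_maximalIdeal (Ideal.isMaximal_comap_of_isIntegral_of_isMaximal N)
    let P := N.comap ψ.toRingHom
    have hPo : P.LiesOver (maximalIdeal R) := ⟨by
      show maximalIdeal R = P.comap (algebraMap R B)
      rw [Ideal.comap_comap, ← hNc]
      congr 1⟩
    have hsu : IsUnit (ψ s) :=
      (IsLocalization.Away.algebraMap_isUnit (S := T) s).map (Ideal.Quotient.mk _)
    by_cases hPM : P = M
    · exact ht (hPM ▸ htN)
    · exact hN.ne_top (Ideal.eq_top_of_isUnit_mem _ (hs P inferInstance hPM hPo) hsu)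
  let Φ : Localization.AtPrime M →ₐ[R] C :=
    IsLocalization.liftAlgHom (M := M.primeCompl) (f := ψ) fun t => hu t.1 t.2
  let L := Localization.AtPrime M
  let ι : T →ₐ[R] L :=
    (IsLocalization.Away.liftAlgHom s (f := Algebra.ofId B L)
      (IsLocalization.map_units L (⟨s, hsM⟩ : M.primeCompl))).restrictScalars R
  have hι : ∀ b, ι (algebraMap B T b) = algebraMap B L b := fun b =>
    (IsLocalization.Away.liftAlgHom s (f := Algebra.ofId B L)
      (IsLocalization.map_units L (⟨s, hsM⟩ : M.primeCompl))).commutes b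
  have hιe : ι e = 1 := by
    have hid : IsIdempotentElem (ι e) := he.map ι
    rcases eq_or_ne (ι e) 1 with h1 | h1
    · exact h1
    exfalso
    obtain ⟨b, n, hb⟩ := IsLocalization.exists_mk'_eq (Submonoid.powers s) e
    have hbe : e * algebraMap B T (n : B) = algebraMap B T b := by rw [← hb, IsLocalization.mk'_spec]
    have hbM : b ∉ M := fun hbm => by
      have hm : algebraMap B T b ∈ MT := Ideal.mem_map_of_mem _ hbm
      rw [← hbe] at hm
      exact heM ((hMT.mul_mem_iff_mem_or_mem.1 hm).resolve_right fun hn =>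
        Set.disjoint_left.1 hdisj n.2 (hMTc ▸ hn))
    have hu : IsUnit (ι e) := by
      refine isUnit_of_mul_isUnit_left (y := ι (algebraMap B T (n : B))) ?_
      rw [← map_mul, hbe, hι]
      exact IsLocalization.map_units L (⟨b, hbM⟩ : M.primeCompl)
    exact h1 (hu.mul_left_cancel (by rw [mul_one]; exact hid.eq))
  let Ψ : C →ₐ[R] L := Ideal.Quotient.liftₐ _ ι fun a ha => by
    obtain ⟨c, rfl⟩ := Ideal.mem_span_singleton'.1 ha
    rw [map_mul, map_sub, map_one, hιe, sub_self, mul_zero]
  refine Module.Finite.of_surjective Ψ.toLinearMap (Function.LeftInverse.surjective (g := Φ) fun z => ?_)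
  show Ψ (Φ z) = z
  suffices Ψ.comp Φ = AlgHom.id R L from AlgHom.congr_fun this z
  refine IsLocalization.algHom_ext M.primeCompl (AlgHom.ext fun b => ?_)
  show Ψ (Φ (algebraMap B L b)) = algebraMap B L b
  rw [show Φ (algebraMap B L b) = ψ b from IsLocalization.lift_eq _ b]
  exact hι b

end Groth.Agent.Hensel
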