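import Groth.Agent.Hensel.Smooth
import Mathlib.RingTheory.TensorProduct.Maps

/-!
Algebra maps from étale and smooth algebras to Henselian pairs.
-/

namespace Groth.Agent.Hensel

universe u

open scoped TensorProduct

variable {A : Type u} [CommRing A] {I : Ideal A}

/-- Two sections of an unramified algebra agreeing modulo `I ⊆ jac` are equal. -/
theorem section_unique (hI : I ≤ Ideal.jacobson ⊥) {B : Type u} [CommRing B] [Algebra A B]
    [Algebra.FiniteType A B] [Algebra.FormallyUnramified A B] {τ₁ τ₂ : B →ₐ[A] A}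
    (h : ∀ x, τ₁ x - τ₂ x ∈ I) : τ₁ = τ₂ := by
  let σ : B →ₐ[A] A ⧸ (⊥ : Ideal A) := (Ideal.Quotient.mkₐ A ⊥).comp τ₁
  obtain ⟨v, hv, hvK⟩ := exists_annihilator_ker σ
  have hv1 : τ₁ v = 1 := by
    have h0 : Ideal.Quotient.mk (⊥ : Ideal A) (τ₁ v) = Ideal.Quotient.mk _ 1 := hv.trans (map_one _).symm
    simpa [sub_eq_zero] using Ideal.Quotient.eq.1 h0
  have hunit : IsUnit (τ₂ v) :=
    isUnit_of_sub_mem hI isUnit_one (by simpa [hv1] using neg_mem (h v))
  refine AlgHom.ext fun x => ?_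
  have hk : σ (x - algebraMap A B (τ₁ x)) = 0 := by
    show Ideal.Quotient.mk _ (τ₁ _) = 0
    rw [map_sub, AlgHom.commutes]
    simp
  have h1 := hvK _ hk
  rw [Ideal.map_bot, Ideal.mem_bot] at h1
  have h2 := congrArg τ₂ h1
  rw [map_mul, map_zero, map_sub, AlgHom.commutes] at h2
  exact (sub_eq_zero.1 ((IsUnit.mul_right_eq_zero hunit).1 h2)).symm

variable {R : Type u} [CommRing R] [Algebra R A] {E : Type u} [CommRing E] [Algebra R E]

theorem exists_algHom_of_etale [HenselianRing A I] [Algebra.Etale R E] (σ : E →ₐ[R] A ⧸ I) :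
    ∃ τ : E →ₐ[R] A, (Ideal.Quotient.mkₐ R I).comp τ = σ := by
  let σ' : A ⊗[R] E →ₐ[A] A ⧸ I :=
    Algebra.TensorProduct.lift (Algebra.ofId A (A ⧸ I)) σ fun _ _ => Commute.all _ _
  obtain ⟨τ, hτ⟩ := exists_lift_of_etale σ'
  refine ⟨(τ.restrictScalars R).comp Algebra.TensorProduct.includeRight, AlgHom.ext fun x => ?_⟩
  have := AlgHom.congr_fun hτ (1 ⊗ₜ x)
  simpa [σ'] using this

theorem exists_algHom_of_smooth [HenselianRing A I] [Algebra.Smooth R E] (σ : E →ₐ[R] A ⧸ I) :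
    ∃ τ : E →ₐ[R] A, (Ideal.Quotient.mkₐ R I).comp τ = σ := by
  let σ' : A ⊗[R] E →ₐ[A] A ⧸ I :=
    Algebra.TensorProduct.lift (Algebra.ofId A (A ⧸ I)) σ fun _ _ => Commute.all _ _
  obtain ⟨τ, hτ⟩ := exists_lift_of_smooth σ'
  refine ⟨(τ.restrictScalars R).comp Algebra.TensorProduct.includeRight, AlgHom.ext fun x => ?_⟩
  have := AlgHom.congr_fun hτ (1 ⊗ₜ x)
  simpa [σ'] using this

theorem algHom_unique (hI : I ≤ Ideal.jacobson ⊥) [Algebra.FiniteType R E]
    [Algebra.FormallyUnramified R E] {f g : E →ₐ[R] A} (h : ∀ x, f x - g x ∈ I) : f = g := by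
  let F : (E →ₐ[R] A) → (A ⊗[R] E →ₐ[A] A) := fun f =>
    Algebra.TensorProduct.lift (AlgHom.id A A) f fun _ _ => Commute.all _ _
  have hF : F f = F g := by
    refine section_unique hI fun x => ?_
    induction x using TensorProduct.induction_on with
    | zero => simp
    | tmul a e =>
      simp only [F, Algebra.TensorProduct.lift_tmul, AlgHom.coe_id, id_eq, ← mul_sub]
      exact I.mul_mem_left _ (h e)
    | add x y hx hy =>
      rw [map_add, map_add, add_sub_add_comm]
      exact add_mem hx hy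
  refine AlgHom.ext fun x => ?_
  simpa [F] using AlgHom.congr_fun hF (1 ⊗ₜ x)

theorem bijective_comp_mk [HenselianRing A I] [Algebra.Etale R E] :
    Function.Bijective fun φ : E →ₐ[R] A => (Ideal.Quotient.mkₐ R I).comp φ :=
  ⟨fun _ _ h => algHom_unique (HenselianRing.jac (I := I)) fun x =>
      Ideal.Quotient.eq.1 (AlgHom.congr_fun h x),
    fun σ => exists_algHom_of_etale σ⟩

end Groth.Agent.Hensel
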