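import Groth.Agent.Hensel.Smooth
import Mathlib.RingTheory.Polynomial.Basic
import Mathlib.LinearAlgebra.Matrix.NonsingularInverse

/-!
Lifting of coprime factorisations with one monic factor over Henselian local rings.
-/

namespace Groth.Agent.Hensel

open Polynomial

universe u

section coeffwise

variable {R : Type*} [CommRing R] {U : Type*} [CommRing U] [Algebra R U]

/-- Apply a derivation to every coefficient. -/
noncomputable def coeffD (D : Derivation R U U) (p : U[X]) : U[X] :=
  ∑ i ∈ p.support, monomial i (D (p.coeff i))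

theorem coeff_coeffD (D : Derivation R U U) (p : U[X]) (n : ℕ) :
    (coeffD D p).coeff n = D (p.coeff n) := by
  rw [coeffD, finsetSum_coeff, Finset.sum_eq_single n]
  · rw [coeff_monomial, if_pos rfl]
  · intro i _ hi; rw [coeff_monomial, if_neg hi]
  · intro hn; rw [notMem_support_iff.1 hn, map_zero, monomial_zero_right, coeff_zero]

theorem coeffD_add (D : Derivation R U U) (p q : U[X]) :
    coeffD D (p + q) = coeffD D p + coeffD D q := by
  ext n; simp [coeff_coeffD]

theorem coeffD_mul (D : Derivation R U U) (p q : U[X]) :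
    coeffD D (p * q) = coeffD D p * q + p * coeffD D q := by
  ext n
  rw [coeff_coeffD, coeff_add, coeff_mul, coeff_mul, coeff_mul, map_sum, ← Finset.sum_add_distrib]
  refine Finset.sum_congr rfl fun x _ => ?_
  rw [coeff_coeffD, coeff_coeffD, D.leibniz, smul_eq_mul, smul_eq_mul]
  ring

theorem coeffD_map (D : Derivation R U U) (p : R[X]) :
    coeffD D (p.map (algebraMap R U)) = 0 := by
  ext n; simp [coeff_coeffD]

end coeffwise

theorem exists_factor_monic {R : Type u} [CommRing R] [HenselianLocalRing R] (f : R[X])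
    (g₀ h₀ : (IsLocalRing.ResidueField R)[X]) (hg : g₀.Monic) (hc : IsCoprime g₀ h₀)
    (hf : f.map (IsLocalRing.residue R) = g₀ * h₀) :
    ∃ g h : R[X], f = g * h ∧ g.Monic ∧ g.map (IsLocalRing.residue R) = g₀ ∧
      h.map (IsLocalRing.residue R) = h₀ := by
  classical
  haveI : HenselianRing R (IsLocalRing.maximalIdeal R) :=
    henselianRing_maximalIdeal_iff.2 inferInstance
  let res := IsLocalRing.residue R
  obtain ⟨d, hd⟩ : ∃ d, g₀.natDegree = d := ⟨_, rfl⟩
  let U := MvPolynomial (Fin d) R
  let Gu : U[X] := X ^ d + ∑ i : Fin d, C (MvPolynomial.X i) * X ^ (i : ℕ)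
  let G : (Fin d → R) → R[X] := fun a => X ^ d + ∑ i : Fin d, C (a i) * X ^ (i : ℕ)
  have hGu : Gu.Monic := monic_X_pow_add (degree_sum_fin_lt _)
  have hG : ∀ a, (G a).Monic := fun a => monic_X_pow_add (degree_sum_fin_lt _)
  have hGmap : ∀ a, Gu.map (MvPolynomial.eval a) = G a := fun a => by
    simp [Gu, G, Polynomial.map_sum]
  have hGud : Gu.natDegree ≤ d := by
    refine natDegree_le_iff_degree_le.2 ((degree_add_le _ _).trans (max_le (degree_X_pow_le d) ?_))
    exact (degree_sum_fin_lt _).le
  let fU : U[X] := f.map (algebraMap R U)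
  have hfU : ∀ a, fU.map (MvPolynomial.eval a) = f := fun a => by
    rw [Polynomial.map_map, show (MvPolynomial.eval a).comp (algebraMap R U) = RingHom.id R from
      RingHom.ext fun r => by simp [U], Polynomial.map_id]
  let r := fU %ₘ Gu
  let q := fU /ₘ Gu
  have hrev : ∀ a, r.map (MvPolynomial.eval a) = f %ₘ G a := fun a => by
    rw [Polynomial.map_modByMonic _ hGu, hfU, hGmap]
  have hrdeg : ∀ n, d ≤ n → r.coeff n = 0 := fun n hn => by
    rcases subsingleton_or_nontrivial U with hU | hU
    · exact Subsingleton.elim _ _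
    refine coeff_eq_zero_of_degree_lt (lt_of_lt_of_le (degree_modByMonic_lt fU hGu) ?_)
    exact degree_le_natDegree.trans (WithBot.coe_le_coe.2 (hGud.trans hn))
  choose a₀ ha₀ using fun i : Fin d => IsLocalRing.residue_surjective (g₀.coeff i)
  have hGg : (G a₀).map res = g₀ := by
    conv_rhs => rw [hg.as_sum, hd]
    simp [G, Polynomial.map_sum, res, ha₀, Finset.sum_range]
  let φ : U →+* IsLocalRing.ResidueField R := res.comp (MvPolynomial.eval a₀)
  have hGφ : Gu.map φ = g₀ := by rw [← Polynomial.map_map, hGmap, hGg]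
  have hfφ : fU.map φ = g₀ * h₀ := by rw [← Polynomial.map_map, hfU, hf]
  have hrφ : r.map φ = 0 := by
    rw [Polynomial.map_modByMonic _ hGu, hGφ, hfφ, modByMonic_eq_zero_iff_dvd hg]
    exact dvd_mul_right _ _
  have hqφ : q.map φ = h₀ := by
    have h1 := congrArg (Polynomial.map φ) (modByMonic_add_div fU Gu)
    rw [Polynomial.map_add, Polynomial.map_mul, hrφ, zero_add, hGφ, hfφ] at h1
    exact hg.isRegular.left h1
  let ρ : Fin d → (IsLocalRing.ResidueField R)[X] := fun j =>
    (coeffD (MvPolynomial.pderiv j) r).map φ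
  have hρ : ∀ j : Fin d, g₀ ∣ ρ j + h₀ * X ^ (j : ℕ) := by
    intro j
    have hDG : coeffD (MvPolynomial.pderiv j) Gu = X ^ (j : ℕ) := by
      ext n
      rw [coeff_coeffD]
      simp only [Gu, coeff_add, coeff_X_pow, finsetSum_coeff, coeff_C_mul, map_add, map_sum]
      rw [Finset.sum_eq_single j]
      · split_ifs <;> simp
      · intro b _ hb
        split_ifs <;> simp [hb]
      · simp
    have h1 := congrArg (coeffD (MvPolynomial.pderiv j)) (modByMonic_add_div fU Gu)
    rw [coeffD_add, coeffD_mul, hDG, coeffD_map] at h1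
    have h2 := congrArg (Polynomial.map φ) h1
    simp only [Polynomial.map_add, Polynomial.map_mul, Polynomial.map_pow, Polynomial.map_X,
      Polynomial.map_zero] at h2
    refine ⟨-((coeffD (MvPolynomial.pderiv j) q).map φ), ?_⟩
    linear_combination h2 - (X : (IsLocalRing.ResidueField R)[X]) ^ (j : ℕ) * hqφ -
      ((coeffD (MvPolynomial.pderiv j) q).map φ) * hGφ
  obtain ⟨a, ha, haa⟩ := exists_zero_of_isUnit_jacobian (I := IsLocalRing.maximalIdeal R) d
    (fun i : Fin d => r.coeff i) a₀ (fun i => by
      rw [← Ideal.Quotient.eq_zero_iff_mem]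
      show φ (r.coeff i) = 0
      rw [← coeff_map, hrφ, coeff_zero]) (by
    show IsUnit (res _)
    rw [RingHom.map_det, ← Matrix.isUnit_iff_isUnit_det, ← Matrix.mulVec_injective_iff_isUnit,
      RingHom.mapMatrix_apply]
    suffices ∀ c : Fin d → IsLocalRing.ResidueField R,
        (∀ i : Fin d, ∑ j, (ρ j).coeff i * c j = 0) → c = 0 by
      intro c c' hcc
      refine sub_eq_zero.1 (this (c - c') fun i => ?_)
      have h3 : ((Matrix.of fun i j : Fin d =>
          MvPolynomial.eval a₀ (MvPolynomial.pderiv j (r.coeff i))).map res).mulVec (c - c') i = 0 := by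
        have hcc' : _ = _ := hcc
        rw [Matrix.mulVec_sub, hcc']
        simp
      rw [← h3]
      simp [Matrix.mulVec, dotProduct, ρ, coeff_coeffD, φ]
    intro c hc0
    let v : (IsLocalRing.ResidueField R)[X] := ∑ j : Fin d, C (c j) * X ^ (j : ℕ)
    have hzero : ∑ j : Fin d, C (c j) * ρ j = 0 := by
      ext n
      simp only [finsetSum_coeff, coeff_C_mul, coeff_zero]
      rcases lt_or_ge n d with hn | hn
      · rw [← hc0 ⟨n, hn⟩]
        exact Finset.sum_congr rfl fun j _ => mul_comm _ _
      · refine Finset.sum_eq_zero fun j _ => ?_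
        simp [ρ, coeff_coeffD, hrdeg n hn]
    have hdvd : g₀ ∣ h₀ * v := by
      have h4 : g₀ ∣ ∑ j : Fin d, C (c j) * (ρ j + h₀ * X ^ (j : ℕ)) :=
        Finset.dvd_sum fun j _ => (hρ j).mul_left _
      simp only [mul_add, Finset.sum_add_distrib, hzero, zero_add] at h4
      convert h4 using 1
      simp only [v, Finset.mul_sum]
      exact Finset.sum_congr rfl fun j _ => by ring
    have hv : v = 0 := eq_zero_of_dvd_of_degree_lt (hc.dvd_of_dvd_mul_left hdvd) (by
      rw [degree_eq_natDegree hg.ne_zero, hd]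
      exact degree_sum_fin_lt _)
    funext i
    have := congrArg (fun p : (IsLocalRing.ResidueField R)[X] => p.coeff i) hv
    simpa [v, Fin.val_inj] using this)
  have hfa : f %ₘ G a = 0 := by
    rw [← hrev]
    ext n
    rw [coeff_map, coeff_zero]
    rcases lt_or_ge n d with hn | hn
    · exact ha ⟨n, hn⟩
    · rw [hrdeg n hn, map_zero]
  have hga : (G a).map res = g₀ := by
    rw [← hGg]
    simp only [G, Polynomial.map_add, Polynomial.map_pow, Polynomial.map_X, Polynomial.map_sum,
      Polynomial.map_mul, Polynomial.map_C]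
    congr 1
    refine Finset.sum_congr rfl fun i _ => ?_
    rw [show res (a i) = res (a₀ i) from Ideal.Quotient.eq.2 (haa i)]
  have hsplit : f = G a * (f /ₘ G a) := by
    conv_lhs => rw [← modByMonic_add_div f (G a), hfa, zero_add]
  refine ⟨G a, f /ₘ G a, hsplit, hG a, hga, hg.isRegular.left ?_⟩
  have h5 := congrArg (Polynomial.map res) hsplit
  rw [Polynomial.map_mul, hga, hf] at h5
  exact h5.symm

end Groth.Agent.Hensel
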