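import Groth.Agent.Hensel.Sections
import Groth.Agent.Hensel.QuasiFinite
import Mathlib

/-!
The finite part of a quasi-finite separated scheme over a Henselian local ring.
-/

namespace Groth.Agent.Hensel

open CategoryTheory CategoryTheory.Limits AlgebraicGeometry IsLocalRing

universe u

variable {R : Type u} [CommRing R] [HenselianLocalRing R]
  {X : Scheme.{u}} (f : X ⟶ Spec (CommRingCat.of R))

theorem exists_clopen_finite_nhd [LocallyQuasiFinite f] [LocallyOfFiniteType f] [IsSeparated f]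
    (x : X) (hx : f.base x = closedPoint R) :
    ∃ W : X.Opens, x ∈ W ∧ IsClosed (W : Set X) ∧ IsFinite (W.ι ≫ f) := by
  obtain ⟨S, _, _, j, hj, ⟨p, rfl⟩, hjf⟩ := exists_affine_presentation f x
  have hqf : LocallyQuasiFinite (Spec.map (CommRingCat.ofHom (algebraMap R S))) := by
    rw [← hjf]; infer_instance
  have hft : LocallyOfFiniteType (Spec.map (CommRingCat.ofHom (algebraMap R S))) := by
    rw [← hjf]; infer_instance
  rw [HasRingHomProperty.Spec_iff (P := @LocallyQuasiFinite)] at hqf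
  rw [HasRingHomProperty.Spec_iff (P := @LocallyOfFiniteType)] at hft
  have : Algebra.QuasiFinite R S := RingHom.quasiFinite_algebraMap.1 hqf
  have : Algebra.FiniteType R S := RingHom.finiteType_algebraMap.1 hft
  have hp : p.asIdeal.comap (algebraMap R S) = maximalIdeal R := by
    have h1 : (j ≫ f).base p = closedPoint R := hx
    rw [hjf] at h1
    exact congrArg PrimeSpectrum.asIdeal h1
  obtain ⟨e, he, hep, -⟩ := exists_finIdem (R := R) p.asIdeal hp
  have := he.module_finite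
  have hloc := IsLocalization.Away.quotient_of_isIdempotentElem he.1
  let π : CommRingCat.of S ⟶ CommRingCat.of (S ⧸ Ideal.span ({1 - e} : Set S)) :=
    CommRingCat.ofHom (algebraMap S _)
  have hπ : IsOpenImmersion (Spec.map π) := IsOpenImmersion.of_isLocalization e
  let g := Spec.map π ≫ j
  have hgf : g ≫ f = Spec.map (CommRingCat.ofHom
      (algebraMap R (S ⧸ Ideal.span ({1 - e} : Set S)))) := by
    simp only [g, Category.assoc, hjf, ← Spec.map_comp]
    rfl
  have hfin : IsFinite (g ≫ f) := by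
    rw [hgf, IsFinite.SpecMap_iff]
    exact RingHom.finite_algebraMap.2 inferInstance
  have : IsFinite g := IsFinite.of_comp g f
  obtain ⟨w, hw⟩ : p ∈ Set.range (Spec.map π).base :=
    (PrimeSpectrum.localization_away_comap_range (S ⧸ Ideal.span ({1 - e} : Set S)) e).symm ▸ hep
  refine ⟨g.opensRange, ⟨w, by simp [g, hw]⟩, ?_, ?_⟩
  · exact g.isClosedMap.isClosed_range
  · have : g.opensRange.ι ≫ f = g.isoOpensRange.inv ≫ (g ≫ f) := by
      rw [← Category.assoc, Scheme.Hom.isoOpensRange_inv_comp]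
    rw [this]
    exact MorphismProperty.RespectsIso.precomp (P := @IsFinite) _ _ hfin

omit [HenselianLocalRing R] in
theorem isFinite_sup [LocallyQuasiFinite f] [LocallyOfFiniteType f] [IsSeparated f]
    (W₁ W₂ : X.Opens) [IsFinite (W₁.ι ≫ f)] [IsFinite (W₂.ι ≫ f)] :
    IsFinite ((W₁ ⊔ W₂).ι ≫ f) := by
  let π := coprod.desc (X.homOfLE (le_sup_left : W₁ ≤ W₁ ⊔ W₂))
    (X.homOfLE (le_sup_right : W₂ ≤ W₁ ⊔ W₂))
  have hcomp : π ≫ (W₁ ⊔ W₂).ι ≫ f = coprod.desc (W₁.ι ≫ f) (W₂.ι ≫ f) := by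
    apply coprod.hom_ext
    · simp only [π, coprod.inl_desc, coprod.inl_desc_assoc, Scheme.homOfLE_ι_assoc]
    · simp only [π, coprod.inr_desc, coprod.inr_desc_assoc, Scheme.homOfLE_ι_assoc]
  have : Surjective π := by
    refine ⟨fun ⟨x, hx⟩ => ?_⟩
    rcases hx with h | h
    · refine ⟨(coprod.inl : _ ⟶ (W₁ : Scheme) ⨿ (W₂ : Scheme)).base ⟨x, h⟩, ?_⟩
      rw [← Scheme.Hom.comp_apply, coprod.inl_desc]
      exact Subtype.ext (by simp)
    · refine ⟨(coprod.inr : _ ⟶ (W₁ : Scheme) ⨿ (W₂ : Scheme)).base ⟨x, h⟩, ?_⟩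
      rw [← Scheme.Hom.comp_apply, coprod.inr_desc]
      exact Subtype.ext (by simp)
  have : IsFinite (π ≫ (W₁ ⊔ W₂).ι ≫ f) := by rw [hcomp]; infer_instance
  have : UniversallyClosed ((W₁ ⊔ W₂).ι ≫ f) := UniversallyClosed.of_comp_surjective π _
  have : IsProper ((W₁ ⊔ W₂).ι ≫ f) := {}
  exact IsFinite.of_isProper_of_locallyQuasiFinite _

theorem exists_finitePart [LocallyQuasiFinite f] [LocallyOfFiniteType f] [QuasiCompact f]
    [IsSeparated f] :
    ∃ W : X.Opens, IsClosed (W : Set X) ∧ IsFinite (W.ι ≫ f) ∧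
      ∀ x : X, f.base x = closedPoint R → x ∈ W := by
  suffices h : ∀ T : Set X, T.Finite → (∀ x ∈ T, f.base x = closedPoint R) →
      ∃ W : X.Opens, IsClosed (W : Set X) ∧ IsFinite (W.ι ≫ f) ∧ ∀ x ∈ T, x ∈ W from
    h _ (f.finite_preimage_singleton (closedPoint R)) fun _ h => h
  intro T hT
  induction T, hT using Set.Finite.induction_on with
  | empty =>
    intro _
    refine ⟨⊥, by simp, ?_, fun _ h => h.elim⟩
    have : IsEmpty ((⊥ : X.Opens) : Scheme) := ⟨fun x => x.2.elim⟩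
    infer_instance
  | @insert a T _ _ ih =>
    intro hT
    obtain ⟨W₁, h₁c, h₁f, h₁⟩ := ih fun x h => hT x (Set.mem_insert_of_mem _ h)
    obtain ⟨W₂, ha, h₂c, h₂f⟩ := exists_clopen_finite_nhd f a (hT a (Set.mem_insert _ _))
    refine ⟨W₁ ⊔ W₂, h₁c.union h₂c, isFinite_sup f W₁ W₂, ?_⟩
    rintro x (rfl | hx)
    · exact Or.inr ha
    · exact Or.inl (h₁ x hx)

omit [HenselianLocalRing R] in
theorem exists_specializes_of_isFinite [IsLocalRing R] {Z : Scheme.{u}}
    (g : Z ⟶ Spec (CommRingCat.of R)) [IsFinite g] (z : Z) :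
    ∃ z₀, z ⤳ z₀ ∧ g.base z₀ = closedPoint R := by
  obtain ⟨z₀, hz, h⟩ := g.isClosedMap.specializingMap
    (specializes_closedPoint (g.base z) : g.base z ⤳ closedPoint R)
  exact ⟨z₀, hz, h⟩

omit [HenselianLocalRing R] in
theorem mem_finitePart_iff [IsLocalRing R] (W : X.Opens)
    (hW : IsClosed (W : Set X) ∧ IsFinite (W.ι ≫ f) ∧
      ∀ x : X, f.base x = closedPoint R → x ∈ W) (x : X) :
    x ∈ W ↔ ∃ x₀, x ⤳ x₀ ∧ f.base x₀ = closedPoint R := by
  refine ⟨fun hx => ?_, fun ⟨x₀, h, h₀⟩ => h.mem_open W.2 (hW.2.2 x₀ h₀)⟩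
  have := hW.2.1
  obtain ⟨z, hz, hz₀⟩ := exists_specializes_of_isFinite (W.ι ≫ f) ⟨x, hx⟩
  exact ⟨W.ι.base z, by simpa using hz.map W.ι.continuous, by simpa using hz₀⟩

end Groth.Agent.Hensel
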