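import Groth.Agent.Hensel.Idempotent
import Mathlib.RingTheory.Nakayama

/-!
Lifting of coprime factorisations of monic polynomials along a Henselian pair.
-/

namespace Groth.Agent.Hensel

open Polynomial

variable {A : Type*} [CommRing A] {I : Ideal A}

theorem mk_mem_map_of_dvd {f P : A[X]}
    (h : f.map (Ideal.Quotient.mk I) ∣ P.map (Ideal.Quotient.mk I)) :
    AdjoinRoot.mk f P ∈ I.map (algebraMap A (AdjoinRoot f)) := by
  obtain ⟨r, hr⟩ := h
  obtain ⟨r, rfl⟩ := Polynomial.map_surjective _ Ideal.Quotient.mk_surjective r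
  have hmem : P - f * r ∈ I.map C := Ideal.mem_map_C_iff.2 fun i => by
    rw [← Ideal.Quotient.eq_zero_iff_mem, ← coeff_map, Polynomial.map_sub, Polynomial.map_mul, hr,
      sub_self, coeff_zero]
  have h2 := Ideal.mem_map_of_mem (AdjoinRoot.mk f) hmem
  rwa [Ideal.map_map, map_sub, map_mul, AdjoinRoot.mk_self, zero_mul, sub_zero] at h2

theorem dvd_of_mk_mem_map {f P : A[X]}
    (h : AdjoinRoot.mk f P ∈ I.map (algebraMap A (AdjoinRoot f))) :
    f.map (Ideal.Quotient.mk I) ∣ P.map (Ideal.Quotient.mk I) := by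
  let ψ : AdjoinRoot f →+* AdjoinRoot (f.map (Ideal.Quotient.mk I)) :=
    AdjoinRoot.lift ((AdjoinRoot.of _).comp (Ideal.Quotient.mk I)) (AdjoinRoot.root _)
      (by rw [← eval₂_map, AdjoinRoot.eval₂_root])
  have hψ : ψ (AdjoinRoot.mk f P) = AdjoinRoot.mk _ (P.map (Ideal.Quotient.mk I)) := by
    rw [AdjoinRoot.lift_mk, ← eval₂_map]
    exact AdjoinRoot.aeval_eq _
  rw [← AdjoinRoot.mk_eq_zero, ← hψ]
  refine (Ideal.map_le_iff_le_comap.2 fun a ha => ?_ : _ ≤ RingHom.ker ψ) h
  rw [Ideal.mem_comap, RingHom.mem_ker]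
  show ψ (AdjoinRoot.of f a) = 0
  rw [AdjoinRoot.lift_of, RingHom.comp_apply, Ideal.Quotient.eq_zero_iff_mem.2 ha, map_zero]

theorem exists_monic_annihilator (hI : I ≤ Ideal.jacobson ⊥) {f : A[X]} (hf : f.Monic)
    {e : AdjoinRoot f} (he : IsIdempotentElem e) {G : A[X]} (hG : G.Monic)
    (hGe : AdjoinRoot.mk f G * e ∈ I.map (algebraMap A (AdjoinRoot f))) :
    ∃ g : A[X], g.Monic ∧ g.natDegree = G.natDegree ∧ AdjoinRoot.mk f g * e = 0 := by
  rcases subsingleton_or_nontrivial A with hA | hA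
  · have : Subsingleton (AdjoinRoot f) := RingHom.codomain_trivial (algebraMap A (AdjoinRoot f))
    exact ⟨G, hG, rfl, Subsingleton.elim _ _⟩
  have := hf.finite_adjoinRoot
  set m := AdjoinRoot.mk f
  set d := G.natDegree
  let l : A[X] →ₗ[A] AdjoinRoot f :=
    (LinearMap.mulRight A e).comp (AdjoinRoot.mkₐ (R := A) f).toLinearMap
  have hl : ∀ p, l p = m p * e := fun p => rfl
  have hspan : (Ideal.span {e}).restrictScalars A ≤ (degreeLT A d).map l := by
    refine Submodule.le_of_le_smul_of_le_jacobson_bot ?_ hI fun y hy => ?_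
    · exact Submodule.FG.restrictScalars (Submodule.fg_span_singleton e)
    obtain ⟨y, rfl⟩ := Ideal.mem_span_singleton'.1 hy
    obtain ⟨p, rfl⟩ := AdjoinRoot.mk_surjective y
    have key : ∀ z ∈ I • (⊤ : Submodule A (AdjoinRoot f)),
        z * e ∈ I • (Ideal.span {e}).restrictScalars A := by
      intro z hz
      refine Submodule.smul_induction_on hz (fun r hr x _ => ?_) fun _ _ h h' => ?_
      · rw [smul_mul_assoc]
        exact Submodule.smul_mem_smul hr (Ideal.mul_mem_left _ _ (Ideal.mem_span_singleton_self e))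
      · rw [add_mul]; exact add_mem h h'
    have : m p * e = l (p %ₘ G) + m (p /ₘ G) * (m G * e) * e := by
      conv_lhs => rw [← modByMonic_add_div p G]
      rw [hl, map_add, map_mul, add_mul]
      congr 1
      rw [mul_assoc, mul_assoc, mul_assoc, he.eq]
      ring
    rw [this]
    refine Submodule.add_mem_sup (Submodule.mem_map_of_mem ?_) (key _ ?_)
    · rw [mem_degreeLT, ← degree_eq_natDegree hG.ne_zero]
      exact degree_modByMonic_lt p hG
    · rw [Ideal.smul_top_eq_map]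
      exact Ideal.mul_mem_left _ _ hGe
  obtain ⟨r, hr, hr'⟩ := hspan (Ideal.mul_mem_left _ (m (X ^ d)) (Ideal.mem_span_singleton_self e))
  rw [hl] at hr'
  have hrd : r.degree < (d : WithBot ℕ) := mem_degreeLT.1 hr
  refine ⟨X ^ d - r, monic_X_pow_sub hrd, natDegree_eq_of_degree_eq_some ?_, ?_⟩
  · rw [degree_sub_eq_left_of_degree_lt (by rwa [degree_X_pow]), degree_X_pow]
  · rw [map_sub, sub_mul, hr', sub_self]

/-- Coprime monic factorisations lift along Henselian pairs. -/
theorem exists_factor [hI : HenselianRing A I] {f : A[X]} (hf : f.Monic) {g₀ h₀ : (A ⧸ I)[X]}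
    (hg₀ : g₀.Monic) (hh₀ : h₀.Monic) (hc : IsCoprime g₀ h₀)
    (hfI : f.map (Ideal.Quotient.mk I) = g₀ * h₀) :
    ∃ g h : A[X], g.Monic ∧ h.Monic ∧ f = g * h ∧ g.map (Ideal.Quotient.mk I) = g₀ ∧
      h.map (Ideal.Quotient.mk I) = h₀ := by
  rcases subsingleton_or_nontrivial (A ⧸ I) with hs | hs
  · have : Subsingleton A := by
      have : I = ⊤ := Ideal.Quotient.subsingleton_iff.1 hs
      have h1 : IsUnit (0 : A) := by
        simpa using Ideal.mem_jacobson_bot.1 (hI.jac (this ▸ Submodule.mem_top : (-1 : A) ∈ I)) 1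
      exact subsingleton_of_zero_eq_one (isUnit_zero_iff.1 h1)
    exact ⟨1, 1, monic_one, monic_one, Subsingleton.elim _ _, Subsingleton.elim _ _,
      Subsingleton.elim _ _⟩
  have hlift : ∀ p : (A ⧸ I)[X], p ∈ lifts (Ideal.Quotient.mk I) := fun p =>
    (mem_lifts p).2 (Polynomial.map_surjective (Ideal.Quotient.mk I) Ideal.Quotient.mk_surjective p)
  obtain ⟨G, hG, hGd, hGm⟩ := lifts_and_natDegree_eq_and_monic (hlift g₀) hg₀
  obtain ⟨H, hH, hHd, hHm⟩ := lifts_and_natDegree_eq_and_monic (hlift h₀) hh₀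
  obtain ⟨u, v, huv⟩ := hc
  obtain ⟨U, rfl⟩ := Polynomial.map_surjective (Ideal.Quotient.mk I) Ideal.Quotient.mk_surjective u
  obtain ⟨V, rfl⟩ := Polynomial.map_surjective (Ideal.Quotient.mk I) Ideal.Quotient.mk_surjective v
  set m := AdjoinRoot.mk f
  have := hf.finite_adjoinRoot
  obtain ⟨e, he, hee⟩ := exists_idempotent_of_finite hI.jac gabberRoot (B := AdjoinRoot f)
    (b := m (V * H)) (by
      rw [← map_mul, ← map_sub]
      refine mk_mem_map_of_dvd ⟨-(U.map (Ideal.Quotient.mk I) * V.map (Ideal.Quotient.mk I)), ?_⟩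
      simp only [Polynomial.map_mul, Polynomial.map_sub, hH, hfI]
      linear_combination (V.map (Ideal.Quotient.mk I) * h₀) * huv)
  have hGe : m G * e ∈ I.map (algebraMap A (AdjoinRoot f)) := by
    rw [show m G * e = m (G * (V * H)) + m G * (e - m (V * H)) by rw [map_mul]; ring]
    refine add_mem (mk_mem_map_of_dvd ⟨V.map (Ideal.Quotient.mk I), ?_⟩) (Ideal.mul_mem_left _ _ hee)
    simp only [Polynomial.map_mul, hG, hH, hfI]
    ring
  have hHe : m H * (1 - e) ∈ I.map (algebraMap A (AdjoinRoot f)) := by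
    rw [show m H * (1 - e) = m (H * (1 - V * H)) - m H * (e - m (V * H)) by
      rw [map_mul m H, map_sub, map_one]; ring]
    refine sub_mem (mk_mem_map_of_dvd ⟨U.map (Ideal.Quotient.mk I), ?_⟩) (Ideal.mul_mem_left _ _ hee)
    simp only [Polynomial.map_mul, Polynomial.map_sub, Polynomial.map_one, hH, hfI]
    linear_combination (-h₀) * huv
  obtain ⟨g, hgm, hgd, hge⟩ := exists_monic_annihilator hI.jac hf he hGm hGe
  obtain ⟨h, hhm, hhd, hhe⟩ := exists_monic_annihilator hI.jac hf he.one_sub hHm hHe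
  have hfd : f.natDegree = g.natDegree + h.natDegree := by
    rw [← hf.natDegree_map (Ideal.Quotient.mk I), hfI, hg₀.natDegree_mul hh₀, hgd, hhd, hGd, hHd]
  have hfgh : f = g * h := by
    refine (eq_of_monic_of_dvd_of_natDegree_le hf (hgm.mul hhm) ?_ ?_).symm
    · rw [← AdjoinRoot.mk_eq_zero, map_mul]
      linear_combination (m h) * hge + (m g) * hhe
    · rw [hgm.natDegree_mul hhm, hfd]
  have hgI : g.map (Ideal.Quotient.mk I) = g₀ := by
    have h1 : m (g * (V * H)) ∈ I.map (algebraMap A (AdjoinRoot f)) := by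
      rw [map_mul, show m g * m (V * H) = 0 - m g * (e - m (V * H)) by rw [← hge]; ring]
      exact sub_mem (zero_mem _) (Ideal.mul_mem_left _ _ hee)
    have h2 := dvd_of_mk_mem_map h1
    rw [hfI, Polynomial.map_mul, Polynomial.map_mul, hH] at h2
    have h3 : g₀ ∣ g.map (Ideal.Quotient.mk I) := IsCoprime.dvd_of_dvd_mul_right
      (show IsCoprime g₀ (V.map (Ideal.Quotient.mk I) * h₀) from
        ⟨U.map (Ideal.Quotient.mk I), 1, by rw [one_mul]; exact huv⟩) (dvd_of_mul_right_dvd h2)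
    refine eq_of_monic_of_dvd_of_natDegree_le hg₀ (hgm.map (Ideal.Quotient.mk I)) h3 ?_
    rw [hgm.natDegree_map, hgd, hGd]
  refine ⟨g, h, hgm, hhm, hfgh, hgI, ?_⟩
  have h2 := congrArg (Polynomial.map (Ideal.Quotient.mk I)) hfgh
  rw [Polynomial.map_mul, hgI, hfI] at h2
  exact (hg₀.isRegular.left h2).symm

end Groth.Agent.Hensel
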