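import Groth.Agent.Hensel.Basic
import Mathlib.RingTheory.MvPolynomial.Symmetric.FundamentalTheorem
import Mathlib.RingTheory.Polynomial.Vieta
import Mathlib.Algebra.Polynomial.Lifts
import Mathlib.Algebra.Polynomial.Derivative
import Mathlib.Algebra.Polynomial.Div

/-!
Gabber's trick: a root of a polynomial `T^N (T-1) + (coefficients in I)` near `1` gives the
factorisation of a monic `f ≡ T^d (T-1)^e (mod I)`.
-/

namespace Groth.Agent.Hensel

open Polynomial

namespace Universal

variable (n d : ℕ)

local notation "U" => MvPolynomial (Fin n) ℤ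
local notation "Sy" => MvPolynomial.symmetricSubalgebra (Fin n) ℤ

/-- `d`-element subsets. -/
abbrev Sub := {S : Finset (Fin n) // S.card = d}

variable {n d}

noncomputable def lin (i : Fin n) : U[X] := X - C (MvPolynomial.X i)
noncomputable def full : U[X] := ∏ i, lin i
noncomputable def gS (S : Sub n d) : U[X] := ∏ i ∈ S.1, lin i
noncomputable def hS (S : Sub n d) : U[X] := ∏ i ∈ S.1ᶜ, lin i
noncomputable def beta (S : Sub n d) : U := ∏ i ∈ S.1, (1 - MvPolynomial.X i)

variable (n d)
noncomputable def bigP : U[X] := ∏ S : Sub n d, (X - C (beta S))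
variable {n d}
noncomputable def bigL (S : Sub n d) : U[X] :=
  ∏ S' ∈ Finset.univ.erase S, (X - C (beta S'))

variable (n d)
noncomputable def bigG (k : ℕ) : U[X] := ∑ S : Sub n d, C ((gS S).coeff k) * bigL S
noncomputable def bigH (k : ℕ) : U[X] := ∑ S : Sub n d, C ((hS S).coeff k) * bigL S

theorem bigP_monic : (bigP n d).Monic := monic_prod_of_monic _ _ fun S _ => monic_X_sub_C _

theorem derivative_bigP : derivative (bigP n d) = ∑ S : Sub n d, bigL S := by
  rw [bigP, derivative_prod_finset]
  exact Finset.sum_congr rfl fun S _ => by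
    rw [derivative_X_sub_C, mul_one]; rfl

variable {n d}

theorem gS_monic (S : Sub n d) : (gS S).Monic := monic_prod_of_monic _ _ fun _ _ => monic_X_sub_C _
theorem hS_monic (S : Sub n d) : (hS S).Monic := monic_prod_of_monic _ _ fun _ _ => monic_X_sub_C _

theorem gS_natDegree (S : Sub n d) : (gS S).natDegree = d := by
  rw [gS, natDegree_prod_of_monic _ _ fun _ _ => by exact monic_X_sub_C _]
  simp [lin, natDegree_X_sub_C, S.2]

theorem hS_natDegree (S : Sub n d) : (hS S).natDegree = n - d := by
  rw [hS, natDegree_prod_of_monic _ _ fun _ _ => by exact monic_X_sub_C _]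
  simp [lin, natDegree_X_sub_C, S.2, Finset.card_compl]

theorem gS_mul_hS (S : Sub n d) : gS S * hS S = full := Finset.prod_mul_prod_compl _ _

theorem bigP_dvd_bigL_mul {S S' : Sub n d} (h : S ≠ S') : bigP n d ∣ bigL S * bigL S' := by
  have hfac : X - C (beta S) ∣ bigL S' :=
    Finset.dvd_prod_of_mem _ (Finset.mem_erase.2 ⟨h, Finset.mem_univ S⟩)
  have : bigP n d = bigL S * (X - C (beta S)) :=
    (Finset.prod_erase_mul _ _ (Finset.mem_univ S)).symm
  rw [this]
  exact mul_dvd_mul_left _ hfac

theorem bigP_dvd (k : ℕ) : bigP n d ∣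
    (∑ x ∈ Finset.HasAntidiagonal.antidiagonal k, bigG n d x.1 * bigH n d x.2)
      - C (full.coeff k) * derivative (bigP n d) ^ 2 := by
  have : (∑ x ∈ Finset.HasAntidiagonal.antidiagonal k, bigG n d x.1 * bigH n d x.2)
      - C (full.coeff k) * derivative (bigP n d) ^ 2
      = ∑ S : Sub n d, ∑ S' : Sub n d,
        C ((gS S * hS S').coeff k - full.coeff k) * (bigL S * bigL S') := by
    rw [derivative_bigP, sq, Finset.sum_mul_sum]
    simp only [bigG, bigH, Finset.sum_mul_sum, coeff_mul, map_sub, map_sum, map_mul, sub_mul,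
      Finset.sum_sub_distrib, Finset.sum_mul, Finset.mul_sum]
    congr 1
    · rw [Finset.sum_comm]
      refine Eq.trans ?_ Finset.sum_comm
      refine Finset.sum_congr rfl fun S _ => ?_
      rw [Finset.sum_comm]
      exact Finset.sum_congr rfl fun S' _ => Finset.sum_congr rfl fun x _ => by ring
  rw [this]
  refine Finset.dvd_sum fun S _ => Finset.dvd_sum fun S' _ => ?_
  rcases eq_or_ne S S' with rfl | h
  · simp [gS_mul_hS]
  · exact (bigP_dvd_bigL_mul h).mul_left _

/-- Action of a permutation on subsets. -/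
def act (e : Equiv.Perm (Fin n)) : Sub n d ≃ Sub n d where
  toFun S := ⟨S.1.map e.toEmbedding, by simp [S.2]⟩
  invFun S := ⟨S.1.map e.symm.toEmbedding, by simp [S.2]⟩
  left_inv S := by ext : 1; simp [Finset.map_map]
  right_inv S := by ext : 1; simp [Finset.map_map]

noncomputable def ren (e : Equiv.Perm (Fin n)) : U →+* U :=
  (MvPolynomial.rename (e : Fin n → Fin n)).toRingHom

theorem map_lin (e : Equiv.Perm (Fin n)) (i : Fin n) : (lin i).map (ren e) = lin (e i) := by
  simp [lin, ren]

theorem map_full (e : Equiv.Perm (Fin n)) : (full (n := n)).map (ren e) = full := by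
  simp only [full, Polynomial.map_prod, map_lin]
  exact Equiv.prod_comp e lin

theorem map_gS (e : Equiv.Perm (Fin n)) (S : Sub n d) : (gS S).map (ren e) = gS (act e S) := by
  simp only [gS, Polynomial.map_prod, map_lin, act, Equiv.coe_fn_mk, Finset.prod_map,
    Equiv.coe_toEmbedding]

theorem map_hS (e : Equiv.Perm (Fin n)) (S : Sub n d) : (hS S).map (ren e) = hS (act e S) := by
  have : (act e S).1ᶜ = S.1ᶜ.map e.toEmbedding := by
    ext i
    simp [act, Finset.mem_map_equiv]
  simp only [hS, this, Polynomial.map_prod, map_lin, Finset.prod_map, Equiv.coe_toEmbedding]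

theorem map_beta (e : Equiv.Perm (Fin n)) (S : Sub n d) : ren e (beta S) = beta (act e S) := by
  simp [beta, act, ren, Finset.prod_map]

theorem map_bigP (e : Equiv.Perm (Fin n)) : (bigP n d).map (ren e) = bigP n d := by
  simp only [bigP, Polynomial.map_prod, Polynomial.map_sub, map_X, map_C, map_beta]
  exact Equiv.prod_comp (act e) fun S => X - C (beta S)

theorem map_bigL (e : Equiv.Perm (Fin n)) (S : Sub n d) :
    (bigL S).map (ren e) = bigL (act e S) := by
  simp only [bigL, Polynomial.map_prod, Polynomial.map_sub, map_X, map_C, map_beta]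
  exact Finset.prod_equiv (act e) (fun i => by simp) (fun i _ => rfl)

theorem map_bigG (e : Equiv.Perm (Fin n)) (k : ℕ) : (bigG n d k).map (ren e) = bigG n d k := by
  simp only [bigG, Polynomial.map_sum, Polynomial.map_mul, map_bigL]
  rw [Finset.sum_congr rfl fun S _ => by
    rw [Polynomial.map_C, ← coeff_map, map_gS]]
  exact Equiv.sum_comp (act e) fun S => C ((gS S).coeff k) * bigL S

theorem map_bigH (e : Equiv.Perm (Fin n)) (k : ℕ) : (bigH n d k).map (ren e) = bigH n d k := by
  simp only [bigH, Polynomial.map_sum, Polynomial.map_mul, map_bigL]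
  rw [Finset.sum_congr rfl fun S _ => by
    rw [Polynomial.map_C, ← coeff_map, map_hS]]
  exact Equiv.sum_comp (act e) fun S => C ((hS S).coeff k) * bigL S

theorem exists_sym_lift (p : U[X]) (h : ∀ e : Equiv.Perm (Fin n), p.map (ren e) = p) :
    ∃ q : Polynomial Sy, q.map (MvPolynomial.symmetricSubalgebra (Fin n) ℤ).val.toRingHom = p := by
  rw [← mem_lifts, lifts_iff_coeff_lifts]
  intro k
  refine ⟨⟨p.coeff k, fun e => ?_⟩, rfl⟩
  calc _ = (p.map (ren e)).coeff k := by rw [coeff_map]; rfl
    _ = p.coeff k := by rw [h e]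

theorem full_monic : (full (n := n)).Monic := monic_prod_of_monic _ _ fun _ _ => monic_X_sub_C _

theorem full_natDegree : (full (n := n)).natDegree = n := by
  rw [full, natDegree_prod_of_monic _ _ fun _ _ => by exact monic_X_sub_C _]
  simp [lin, natDegree_X_sub_C]

theorem esymm_eq_coeff {j : ℕ} (hj : j ≤ n) :
    MvPolynomial.esymm (Fin n) ℤ j = (-1) ^ j * (full (n := n)).coeff (n - j) := by
  have h := Multiset.prod_X_sub_C_coeff
    (Finset.univ.val.map fun i : Fin n => (MvPolynomial.X i : U)) (k := n - j) (by simp)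
  rw [Multiset.map_map] at h
  simp only [Multiset.card_map, Finset.card_val, Finset.card_univ, Fintype.card_fin,
    show n - (n - j) = j by omega] at h
  rw [show (full (n := n)).coeff (n - j) = _ from h, ← MvPolynomial.esymm_eq_multiset_esymm,
    ← mul_assoc, ← mul_pow]
  simp

end Universal

theorem eval_identity_of_dvd {S T A : Type*} [CommRing S] [CommRing T] [CommRing A]
    {ι : S →+* T} (hι : Function.Injective ι) (ψ : S →+* A) {P F : S[X]} (hP : P.Monic)
    (G H : ℕ → S[X]) (k : ℕ) (α : A) (hα : (P.map ψ).eval α = 0)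
    (h : P.map ι ∣ (∑ x ∈ Finset.HasAntidiagonal.antidiagonal k,
        (G x.1).map ι * (H x.2).map ι) - C ((F.map ι).coeff k) * derivative (P.map ι) ^ 2) :
    ∑ x ∈ Finset.HasAntidiagonal.antidiagonal k,
        ((G x.1).map ψ).eval α * ((H x.2).map ψ).eval α
      = (F.map ψ).coeff k * ((derivative P).map ψ).eval α ^ 2 := by
  have hdvd : P ∣ (∑ x ∈ Finset.HasAntidiagonal.antidiagonal k, G x.1 * H x.2)
      - C (F.coeff k) * derivative P ^ 2 := by
    refine (Polynomial.map_dvd_map ι hι hP).1 ?_
    simpa [Polynomial.map_sum, derivative_map] using h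
  have h0 := map_dvd (eval₂RingHom ψ α) hdvd
  simp only [map_sub, map_sum, map_mul, map_pow, coe_eval₂RingHom, eval₂_C, ← eval_map, hα,
    zero_dvd_iff, sub_eq_zero] at h0
  simpa [coeff_map] using h0

open Universal in
theorem factor_of_gabberRoot {A : Type*} [CommRing A] {I : Ideal A}
    (hj : I ≤ Ideal.jacobson ⊥) (hG : GabberRoot I) {f : A[X]} (hf : f.Monic) (d e : ℕ)
    (hfI : f.map (Ideal.Quotient.mk I) = X ^ d * (X - 1) ^ e) :
    ∃ g h : A[X], g.Monic ∧ h.Monic ∧ f = g * h ∧ g.map (Ideal.Quotient.mk I) = X ^ d ∧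
      h.map (Ideal.Quotient.mk I) = (X - 1) ^ e := by
  classical
  rcases subsingleton_or_nontrivial (A ⧸ I) with hs | hs
  · have : I = ⊤ := Ideal.Quotient.subsingleton_iff.1 hs
    have : Subsingleton A := by
      have h1 : IsUnit (0 : A) := by
        simpa using Ideal.mem_jacobson_bot.1 (hj (this ▸ Submodule.mem_top : (-1 : A) ∈ I)) 1
      exact subsingleton_of_zero_eq_one (isUnit_zero_iff.1 h1)
    exact ⟨1, 1, monic_one, monic_one, Subsingleton.elim _ _, Subsingleton.elim _ _,
      Subsingleton.elim _ _⟩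
  set n := d + e with hn
  let π := Ideal.Quotient.mk I
  have hXe : ((X - 1 : (A ⧸ I)[X]) ^ e).Monic := by simpa using (monic_X_sub_C (1 : A ⧸ I)).pow e
  have hdeg : f.natDegree = n := by
    rw [← hf.natDegree_map π, hfI, (monic_X_pow d).natDegree_mul hXe, natDegree_X_pow,
      (by simpa using monic_X_sub_C (1 : A ⧸ I) : (X - 1 : (A ⧸ I)[X]).Monic).natDegree_pow]
    have : (X - 1 : (A ⧸ I)[X]).natDegree = 1 := by simpa using natDegree_X_sub_C (1 : A ⧸ I)
    rw [this, mul_one]
  let Sy := MvPolynomial.symmetricSubalgebra (Fin n) ℤ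
  let ι : Sy →+* MvPolynomial (Fin n) ℤ := Sy.val.toRingHom
  have hι : Function.Injective ι := Subtype.val_injective
  -- specialisation to the coefficients of `f`
  let ψ : Sy →+* A :=
    (MvPolynomial.aeval fun i : Fin n =>
        (-1 : A) ^ ((i : ℕ) + 1) * f.coeff (n - (i + 1))).toRingHom.comp
      (MvPolynomial.esymmAlgEquiv (Fin n) ℤ (Fintype.card_fin n)).symm.toRingEquiv.toRingHom
  let es : ℕ → Sy := fun j =>
    ⟨MvPolynomial.esymm (Fin n) ℤ j, MvPolynomial.esymm_isSymmetric _ _ _⟩
  have hψes : ∀ i : Fin n, ψ (es (i + 1)) = (-1 : A) ^ ((i : ℕ) + 1) * f.coeff (n - (i + 1)) := by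
    intro i
    show MvPolynomial.aeval _
      ((MvPolynomial.esymmAlgEquiv (Fin n) ℤ (Fintype.card_fin n)).symm (es (i + 1))) = _
    rw [MvPolynomial.esymmAlgEquiv_symm_apply, MvPolynomial.aeval_X]
  have hsymext : ∀ {B : Type _} [CommRing B] (χ₁ χ₂ : Sy →+* B),
      (∀ i : Fin n, χ₁ (es (i + 1)) = χ₂ (es (i + 1))) → ∀ x, χ₁ x = χ₂ x := by
    intro B _ χ₁ χ₂ h x
    obtain ⟨q, rfl⟩ := (MvPolynomial.esymmAlgEquiv (Fin n) ℤ (Fintype.card_fin n)).surjective x
    refine RingHom.congr_fun (MvPolynomial.ringHom_ext (f := χ₁.comp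
      (MvPolynomial.esymmAlgEquiv (Fin n) ℤ (Fintype.card_fin n)).toRingEquiv.toRingHom) (g := χ₂.comp
      (MvPolynomial.esymmAlgEquiv (Fin n) ℤ (Fintype.card_fin n)).toRingEquiv.toRingHom)
      (fun r => RingHom.congr_fun (RingHom.ext_int
        ((χ₁.comp (MvPolynomial.esymmAlgEquiv (Fin n) ℤ (Fintype.card_fin n)).toRingEquiv.toRingHom).comp MvPolynomial.C)
        ((χ₂.comp (MvPolynomial.esymmAlgEquiv (Fin n) ℤ (Fintype.card_fin n)).toRingEquiv.toRingHom).comp MvPolynomial.C)) r) (fun i => ?_)) q
    have : (MvPolynomial.esymmAlgEquiv (Fin n) ℤ (Fintype.card_fin n)) (MvPolynomial.X i) =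
        es (i + 1) := by
      rw [← MvPolynomial.esymmAlgEquiv_symm_apply (σ := Fin n) (R := ℤ) (hn := Fintype.card_fin n) (i := i),
        AlgEquiv.apply_symm_apply]
    show χ₁ _ = χ₂ _
    rw [RingEquiv.toRingHom_eq_coe, RingHom.coe_coe, AlgEquiv.coe_ringEquiv, this]
    exact h i
  obtain ⟨Fs, hFs⟩ := exists_sym_lift (full (n := n)) map_full
  obtain ⟨Ps, hPs⟩ := exists_sym_lift (bigP n d) map_bigP
  choose Gs hGs using fun k => exists_sym_lift (bigG n d k) fun e' => map_bigG e' k
  choose Hs hHs using fun k => exists_sym_lift (bigH n d k) fun e' => map_bigH e' k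
  replace hFs : Fs.map ι = full := hFs
  replace hPs : Ps.map ι = bigP n d := hPs
  replace hGs : ∀ k, (Gs k).map ι = bigG n d k := hGs
  replace hHs : ∀ k, (Hs k).map ι = bigH n d k := hHs
  have hesF : ∀ i : Fin n, es (i + 1) = (-1) ^ ((i : ℕ) + 1) * Fs.coeff (n - (i + 1)) := by
    intro i
    apply hι
    rw [map_mul, map_pow, map_neg, map_one, ← coeff_map, hFs]
    exact esymm_eq_coeff i.isLt
  have hψF : Fs.map ψ = f := by
    ext k
    rw [coeff_map]
    rcases lt_trichotomy k n with hk | hk | hk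
    · have h := hψes ⟨n - k - 1, by omega⟩
      rw [hesF] at h
      simp only [map_mul, map_pow, map_neg, map_one,
        show n - k - 1 + 1 = n - k by omega, show n - (n - k) = k by omega] at h
      exact (IsUnit.mul_right_inj ((isUnit_one.neg).pow _)).1 h
    · subst hk
      have : Fs.coeff n = 1 := hι (by
        rw [map_one, ← coeff_map, hFs]
        simpa [full_natDegree] using full_monic.coeff_natDegree)
      rw [this, map_one, ← hdeg]
      exact hf.coeff_natDegree.symm
    · have : Fs.coeff k = 0 := hι (by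
        rw [map_zero, ← coeff_map, hFs]
        exact coeff_eq_zero_of_natDegree_lt (by rwa [full_natDegree]))
      rw [this, map_zero, coeff_eq_zero_of_natDegree_lt (by omega)]
  -- reduction modulo `I`
  let r : Fin n → A ⧸ I := Fin.append (fun _ : Fin d => 0) (fun _ : Fin e => 1)
  let ev : MvPolynomial (Fin n) ℤ →+* A ⧸ I := MvPolynomial.eval₂Hom (Int.castRingHom _) r
  have hevF : (full (n := n)).map ev = f.map π := by
    rw [hfI, full, Polynomial.map_prod]
    simp only [lin, Polynomial.map_sub, map_X, map_C, ev, MvPolynomial.eval₂Hom_X']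
    rw [Fin.prod_univ_add]
    simp [r]
  have hcomp : ∀ x, π (ψ x) = ev (ι x) := by
    refine hsymext (π.comp ψ) (ev.comp ι) fun i => ?_
    simp only [RingHom.comp_apply, hesF, map_mul, map_pow, map_neg, map_one]
    congr 1
    rw [← coeff_map, ← coeff_map, hψF, ← coeff_map, hFs, ← coeff_map, hevF]
  let S₀ : Sub n d := ⟨Finset.univ.map (Fin.castAddEmb e), by simp⟩
  have hbeta : ∀ S : Sub n d, ev (beta S) = if S = S₀ then 1 else 0 := by
    intro S
    simp only [beta, map_prod, map_sub, map_one, ev, MvPolynomial.eval₂Hom_X']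
    split_ifs with h
    · subst h
      refine Finset.prod_eq_one fun i hi => ?_
      obtain ⟨j, -, rfl⟩ := Finset.mem_map.1 hi
      simp [r, Fin.castAddEmb]
    · have : ∃ i ∈ S.1, i ∉ S₀.1 := by
        by_contra hcon
        push Not at hcon
        exact h (Subtype.ext (Finset.eq_of_subset_of_card_le hcon (by rw [S.2, S₀.2])))
      obtain ⟨i, hi, hi0⟩ := this
      refine Finset.prod_eq_zero hi ?_
      induction i using Fin.addCases with
      | left j => exact absurd (Finset.mem_map.2 ⟨j, Finset.mem_univ _, rfl⟩) hi0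
      | right j => simp [r]
  let Φ : (MvPolynomial (Fin n) ℤ)[X] →+* A ⧸ I := eval₂RingHom ev 1
  have hL : ∀ S : Sub n d, Φ (bigL S) = if S = S₀ then 1 else 0 := by
    intro S
    simp only [bigL, map_prod, Φ, coe_eval₂RingHom, eval₂_sub, eval₂_X, eval₂_C, hbeta]
    split_ifs with h
    · subst h
      exact Finset.prod_eq_one fun S' hS' => by simp [Finset.ne_of_mem_erase hS']
    · exact Finset.prod_eq_zero (Finset.mem_erase.2 ⟨Ne.symm h, Finset.mem_univ S₀⟩) (by simp)
  have hΦG : ∀ k, Φ (bigG n d k) = (X ^ d : (A ⧸ I)[X]).coeff k := by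
    intro k
    simp only [bigG, map_sum, map_mul, hL, mul_ite, mul_one, mul_zero, Finset.sum_ite_eq',
      Finset.mem_univ, if_true]
    simp only [Φ, coe_eval₂RingHom, eval₂_C, ← coeff_map]
    congr 1
    simp only [gS, S₀, Polynomial.map_prod, Finset.prod_map, lin, Polynomial.map_sub, map_X, map_C,
      ev, MvPolynomial.eval₂Hom_X']
    simp [r, Fin.castAddEmb]
  have hΦP' : Φ (derivative (bigP n d)) = 1 := by
    simp [derivative_bigP, hL]
  have hπψ : ∀ (q : Sy[X]) (x : A), π x = 1 → π ((q.map ψ).eval x) = Φ (q.map ι) := by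
    intro q x hx
    simp only [Φ, coe_eval₂RingHom, eval₂_map, eval_map, hom_eval₂, hx]
    congr 1
    exact RingHom.ext hcomp
  -- the root
  set P := Ps.map ψ with hP
  have hPm : P.Monic := (monic_of_injective hι (hPs ▸ bigP_monic n d)).map ψ
  have hPI : P.map π = X ^ (Fintype.card (Sub n d) - 1) * (X - 1) := by
    rw [hP, Polynomial.map_map, show π.comp ψ = ev.comp ι from RingHom.ext hcomp,
      ← Polynomial.map_map, hPs, bigP, Polynomial.map_prod,
      ← Finset.prod_erase_mul _ _ (Finset.mem_univ S₀)]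
    simp only [Polynomial.map_sub, map_X, map_C, hbeta, if_true, map_one]
    congr 1
    rw [Finset.prod_congr rfl (g := fun _ => X) fun S hS => by simp [Finset.ne_of_mem_erase hS]]
    simp
  obtain ⟨α, hα1, hαP⟩ : ∃ α : A, π α = 1 ∧ P.eval α = 0 := by
    set N := Fintype.card (Sub n d) - 1
    set p := P - X ^ N * (X - 1) with hp
    have hpI : ∀ i, p.coeff i ∈ I := by
      intro i
      rw [← Ideal.Quotient.eq_zero_iff_mem, ← coeff_map]
      simp [hp, π, hPI]
    have hPd : P.natDegree = N + 1 := by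
      have h1 : (X - 1 : (A ⧸ I)[X]).Monic := by simpa using monic_X_sub_C (1 : A ⧸ I)
      rw [← hPm.natDegree_map π, hPI, (monic_X_pow N).natDegree_mul h1, natDegree_X_pow]
      simpa using natDegree_X_sub_C (1 : A ⧸ I)
    rcases Nat.eq_zero_or_pos N with hN | hN
    · refine ⟨-P.coeff 0, ?_, ?_⟩
      · have := congrArg (fun q => q.coeff 0) hPI
        simp [hN] at this
        simp [π, this]
      · rw [hPm.eq_X_add_C (by omega)]
        simp
    · have hpd : p.natDegree ≤ N := by
        rw [natDegree_le_iff_coeff_eq_zero]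
        intro i hi
        rcases Nat.eq_or_lt_of_le (Nat.succ_le_of_lt hi) with h | h
        · subst h
          have h1 : P.coeff (N + 1) = 1 := hPd ▸ hPm.coeff_natDegree
          simp [hp, mul_sub, h1, ← pow_succ, coeff_X_pow]
        · have h1 : P.coeff i = 0 := coeff_eq_zero_of_natDegree_lt (by omega)
          simp [hp, mul_sub, h1, ← pow_succ, coeff_X_pow, show i ≠ N + 1 by omega,
            show i ≠ N by omega]
      obtain ⟨α, h1, h2⟩ := hG N hN p hpd hpI
      refine ⟨α, ?_, ?_⟩
      · simpa [π, sub_eq_zero] using Ideal.Quotient.eq_zero_iff_mem.2 h1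
      · simpa [hp] using h2
  set P'α := (derivative Ps |>.map ψ).eval α with hP'α
  have hP'1 : π P'α = 1 := by
    rw [hP'α, hπψ _ _ hα1, ← derivative_map, hPs, hΦP']
  obtain ⟨w, hw⟩ := isUnit_iff_exists_inv.1
    (isUnit_of_quotient hj (x := P'α) (by rw [show Ideal.Quotient.mk I P'α = 1 from hP'1]; exact isUnit_one))
  have hw1 : π w = 1 := by simpa [hP'1] using congrArg π hw
  let g : A[X] := ∑ k ∈ Finset.range (d + 1), C (((Gs k).map ψ).eval α * w) * X ^ k
  let h : A[X] := ∑ k ∈ Finset.range (e + 1), C (((Hs k).map ψ).eval α * w) * X ^ k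
  have hG0 : ∀ k, d < k → Gs k = 0 := fun k hk => by
    apply Polynomial.map_injective ι hι
    rw [hGs, Polynomial.map_zero, bigG]
    exact Finset.sum_eq_zero fun S _ => by
      rw [coeff_eq_zero_of_natDegree_lt (by rwa [gS_natDegree]), map_zero, zero_mul]
  have hH0 : ∀ k, e < k → Hs k = 0 := fun k hk => by
    apply Polynomial.map_injective ι hι
    rw [hHs, Polynomial.map_zero, bigH]
    exact Finset.sum_eq_zero fun S _ => by
      rw [coeff_eq_zero_of_natDegree_lt (by rw [hS_natDegree]; omega), map_zero, zero_mul]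
  have hgc : ∀ k, g.coeff k = ((Gs k).map ψ).eval α * w := by
    intro k
    simp only [g, finsetSum_coeff, coeff_C_mul_X_pow, Finset.sum_ite_eq, Finset.mem_range]
    split_ifs with hk
    · rfl
    · rw [hG0 k (by omega)]; simp
  have hhc : ∀ k, h.coeff k = ((Hs k).map ψ).eval α * w := by
    intro k
    simp only [h, finsetSum_coeff, coeff_C_mul_X_pow, Finset.sum_ite_eq, Finset.mem_range]
    split_ifs with hk
    · rfl
    · rw [hH0 k (by omega)]; simp
  have hGd : Gs d = derivative Ps := by
    apply Polynomial.map_injective ι hι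
    rw [hGs, ← derivative_map, hPs, derivative_bigP, bigG]
    refine Finset.sum_congr rfl fun S _ => ?_
    rw [show (gS S).coeff d = 1 by
      simpa [gS_natDegree] using (gS_monic S).coeff_natDegree, map_one, one_mul]
  have hHe : Hs e = derivative Ps := by
    apply Polynomial.map_injective ι hι
    rw [hHs, ← derivative_map, hPs, derivative_bigP, bigH]
    refine Finset.sum_congr rfl fun S _ => ?_
    rw [show (hS S).coeff e = 1 by
      simpa [hS_natDegree, hn] using (hS_monic S).coeff_natDegree, map_one, one_mul]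
  have hgm : g.Monic := monic_of_natDegree_le_of_coeff_eq_one d
    (natDegree_le_iff_coeff_eq_zero.2 fun k hk => by simp [hgc, hG0 k hk])
    (by rw [hgc, hGd]; exact hw)
  have hhm : h.Monic := monic_of_natDegree_le_of_coeff_eq_one e
    (natDegree_le_iff_coeff_eq_zero.2 fun k hk => by simp [hhc, hH0 k hk])
    (by rw [hhc, hHe]; exact hw)
  have hgh : f = g * h := by
    ext k
    have hd : Ps.map ι ∣ (∑ x ∈ Finset.HasAntidiagonal.antidiagonal k,
        (Gs x.1).map ι * (Hs x.2).map ι) - C ((Fs.map ι).coeff k) * derivative (Ps.map ι) ^ 2 := by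
      simp only [hPs, hGs, hHs, hFs]
      exact bigP_dvd k
    have h0 := eval_identity_of_dvd hι ψ (monic_of_injective hι (hPs ▸ bigP_monic n d)) Gs Hs k α
      hαP hd
    rw [hψF, ← hP'α] at h0
    rw [coeff_mul]
    simp only [hgc, hhc]
    calc f.coeff k = f.coeff k * P'α ^ 2 * w ^ 2 := by
          rw [mul_assoc, ← mul_pow, hw, one_pow, mul_one]
      _ = _ := by
          rw [← h0, Finset.sum_mul]
          exact Finset.sum_congr rfl fun x _ => by ring
  have hgI : g.map π = X ^ d := by
    ext k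
    rw [coeff_map, hgc, map_mul, hw1, mul_one, hπψ _ _ hα1, hGs, hΦG]
  refine ⟨g, h, hgm, hhm, hgh, hgI, ?_⟩
  have h2 := congrArg (Polynomial.map π) hgh
  rw [Polynomial.map_mul, hgI, hfI] at h2
  exact ((monic_X_pow d).isRegular.left h2).symm

end Groth.Agent.Hensel
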